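import Groth.Agent.L20.SmoothLocal.Lift
import Groth.Prelude.Def_MoreMor
import Mathlib.RingTheory.RingHom.Smooth

/-!
# Formal smoothness of morphisms of schemes is local on the source and target
-/

set_option autoImplicit false
set_option backward.isDefEq.respectTransparency.types false
set_option linter.style.haveILetI false
set_option linter.unusedVariables false

universe u

open CategoryTheory CategoryTheory.Limits AlgebraicGeometry Opposite TopologicalSpace

noncomputable section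

namespace Groth.L20.SmoothLocal

variable {X Y : Scheme.{u}} {f : X ⟶ Y}

/-- The square-zero extension of a quotient. -/
def SqExt.ofIdeal {A : Type u} [CommRing A] (I : Ideal A) (hI : I ^ 2 = ⊥) : SqExt A (A ⧸ I) where
  π := Ideal.Quotient.mk I
  surj := Ideal.Quotient.mk_surjective
  sq x y hx hy := by
    have h : x * y ∈ I ^ 2 := by
      rw [pow_two]
      exact Ideal.mul_mem_mul (Ideal.Quotient.eq_zero_iff_mem.1 hx) (Ideal.Quotient.eq_zero_iff_mem.1 hy)
    rw [hI] at h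
    exact h

theorem exists_chart (f : X ⟶ Y) (x : X) : ∃ c : Chart f, x ∈ c.U := by
  obtain ⟨V, hV, hxV, -⟩ := exists_isAffineOpen_mem_and_subset (x := f x) (U := ⊤) trivial
  obtain ⟨U, hU, hxU, hUV⟩ := exists_isAffineOpen_mem_and_subset (x := x) (U := f ⁻¹ᵁ V) hxV
  exact ⟨⟨U, V, hU, hV, hUV⟩, hxU⟩

theorem exists_atlas {A0 : Type u} [CommRing A0] (a0 : Spec (CommRingCat.of A0) ⟶ X)
    (P : Chart f → A0 → Prop) (hmono : ∀ (c : Chart f) (x y : A0), P c x → P c (x * y))
    (hP : ∀ p : PrimeSpectrum A0, ∃ (c : Chart f) (x : A0), x ∉ p.asIdeal ∧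
      Small a0 (Localization.Away x) c ∧ P c x) :
    ∃ 𝔄 : Atlas f a0, ∀ i, P (𝔄.c i) (𝔄.a i) := by
  classical
  choose c x hx hsm hPc using hP
  have hspan : Ideal.span (Set.range x) = ⊤ := by
    by_contra hne
    obtain ⟨m, hm, hle⟩ := Ideal.exists_le_maximal _ hne
    exact hx ⟨m, hm.isPrime⟩ (hle (Ideal.subset_span ⟨_, rfl⟩))
  obtain ⟨s, hs⟩ : ∃ s : Finset (PrimeSpectrum A0), Ideal.span (x '' (s : Set _)) = ⊤ := by
    obtain ⟨T, hT, h1⟩ := Submodule.mem_span_finite_of_mem_span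
      (show (1 : A0) ∈ Ideal.span (Set.range x) by rw [hspan]; trivial)
    choose g hg using fun t : (T : Set A0) => hT t.2
    refine ⟨Finset.univ.image g, (Ideal.eq_top_iff_one _).2 (Submodule.span_mono ?_ h1)⟩
    intro t ht
    exact ⟨g ⟨t, ht⟩, by simp, hg ⟨t, ht⟩⟩
  let e := s.equivFin
  refine ⟨{ ι := Fin s.card, a := fun i => x (e.symm i).1, span := ?_, c := fun i => c (e.symm i).1,
            small := fun i => hsm _ }, fun i => hPc _⟩
  rw [← hs]
  congr 1
  ext t
  constructor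
  · rintro ⟨i, rfl⟩; exact ⟨_, (e.symm i).2, rfl⟩
  · rintro ⟨p, hp, rfl⟩; exact ⟨e ⟨p, hp⟩, by simp⟩

theorem exists_small {A0 : Type u} [CommRing A0] (a0 : Spec (CommRingCat.of A0) ⟶ X) (c : Chart f)
    (p : PrimeSpectrum A0) (hp : a0 p ∈ c.U) :
    ∃ x : A0, x ∉ p.asIdeal ∧ Small a0 (Localization.Away x) c := by
  obtain ⟨_, ⟨x, rfl⟩, hpx, hsub⟩ :=
    (PrimeSpectrum.isTopologicalBasis_basic_opens (R := A0)).exists_subset_of_mem_open
    (a := p) (u := ((a0 ⁻¹ᵁ c.U).carrier : Set (PrimeSpectrum A0)))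
    hp (a0 ⁻¹ᵁ c.U).2
  refine ⟨x, hpx, fun q _ => ?_⟩
  exact hsub ((PrimeSpectrum.localization_away_comap_range (Localization.Away x) x).le ⟨q, rfl⟩)

/-- The lifting property of a morphism with formally smooth charts. -/
theorem isFormallySmoothHom_of_charts
    (h : ∀ x : X, ∃ c : Chart f, x ∈ c.U ∧
      letI := (f.appLE c.V c.U c.e).hom.toAlgebra
      Algebra.FormallySmooth Γ(Y, c.V) Γ(X, c.U)) : MoreMor.IsFormallySmoothHom f := by
  intro A _ I hI a0 b hw
  let 𝔗 := SqExt.ofIdeal I hI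
  obtain ⟨𝔄, h𝔄⟩ := exists_atlas (f := f) a0
    (fun c x => letI := (f.appLE c.V c.U c.e).hom.toAlgebra
      Algebra.FormallySmooth Γ(Y, c.V) Γ(X, c.U)) (fun c x y hc => hc) fun p => by
      obtain ⟨c, hc, hsm⟩ := h (a0 p)
      obtain ⟨x, hx, hs⟩ := exists_small a0 c p hc
      exact ⟨c, x, hx, hs, hsm⟩
  choose α hα using fun i => 𝔗.surj (𝔄.a i)
  have hsmall : ∀ i, Small a0 (𝔗.R (α i)) (𝔄.c i) := fun i =>
    𝔄.small' (isUnit_of_dvd_w hα dvd_rfl)
  have hlift : ∀ i, ∃ l, IsLift 𝔗 f b a0 (α i) l := by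
    intro i
    let c := 𝔄.c i
    let χ := chi (hsmall i)
    let bT : Spec (CommRingCat.of (SqExt.T (α i))) ⟶ Y :=
      Spec.map (CommRingCat.ofHom (algebraMap A (SqExt.T (α i)))) ≫ b
    have hbT : Spec.map (CommRingCat.ofHom (𝔗.p (α i))) ≫ bT = a0R a0 (𝔗.R (α i)) ≫ f := by
      show _ ≫ _ ≫ b = _
      rw [← Category.assoc, specMap_p_comp, Category.assoc, a0R, Category.assoc]
      congr 1
    have hbV : ⊤ ≤ bT ⁻¹ᵁ c.V :=
      le_preimage_of_nil _ (𝔗.p_surjective _) (𝔗.p_nil _) _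
        (by rw [hbT]; exact fun _ _ => c.e (hsmall i trivial))
    letI : Algebra Γ(Y, c.V) Γ(X, c.U) := (f.appLE c.V c.U c.e).hom.toAlgebra
    letI : Algebra Γ(Y, c.V) (SqExt.T (α i)) := (readHom bT c.V hbV).toAlgebra
    letI : Algebra Γ(Y, c.V) (𝔗.R (α i)) := ((𝔗.p (α i)).comp (readHom bT c.V hbV)).toAlgebra
    let g : SqExt.T (α i) →ₐ[Γ(Y, c.V)] 𝔗.R (α i) := { 𝔗.p (α i) with commutes' := fun _ => rfl }
    let φ : Γ(X, c.U) →ₐ[Γ(Y, c.V)] 𝔗.R (α i) :=
      { χ with
        commutes' := fun s => by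
          show χ ((f.appLE c.V c.U c.e).hom s) = 𝔗.p (α i) (readHom bT c.V hbV s)
          have e1 := readHom_congr hbT c.V (le_preimage_specMap _ hbV)
            (fun _ _ => c.e (hsmall i trivial))
          rw [readHom_specMap _ bT c.V hbV, readHom_comp (a0R a0 (𝔗.R (α i))) f c.e (hsmall i)] at e1
          exact (RingHom.congr_fun e1 s).symm }
    haveI : Algebra.FormallySmooth Γ(Y, c.V) Γ(X, c.U) := h𝔄 i
    have hnil : IsNilpotent (RingHom.ker (g : SqExt.T (α i) →+* 𝔗.R (α i))) := by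
      refine ⟨2, ?_⟩
      rw [pow_two, Ideal.zero_eq_bot, ← le_bot_iff, Ideal.mul_le]
      intro x hx y hy
      exact 𝔗.p_sq (α i) x y hx hy
    let ψ := Algebra.FormallySmooth.liftOfSurjective φ g (𝔗.p_surjective _) hnil
    refine ⟨ofReadHom c.hU ψ.toRingHom, ?_, ?_⟩
    · refine ext_readHom c.hU (le_preimage_specMap _ (le_preimage_ofReadHom c.hU _)) (hsmall i) ?_
      rw [readHom_specMap _ _ c.U (le_preimage_ofReadHom c.hU _), readHom_ofReadHom]
      exact RingHom.ext fun x =>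
        Algebra.FormallySmooth.liftOfSurjective_apply φ g (𝔗.p_surjective _) hnil x
    · refine ext_readHom c.hV (fun _ _ => c.e (le_preimage_ofReadHom c.hU _ trivial)) hbV ?_
      rw [readHom_comp _ f c.e (le_preimage_ofReadHom c.hU _), readHom_ofReadHom]
      exact RingHom.ext fun s => ψ.commutes s
  choose l hl using hlift
  exact exists_lift (𝔗 := 𝔗) (a := b) (a0 := a0) hw.symm hα (Or.inl h𝔄) l hl

/-- Charts of a formally smooth morphism are formally smooth. -/
theorem formallySmooth_of_isFormallySmoothHom (hf : MoreMor.IsFormallySmoothHom f) (c : Chart f) :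
    letI := (f.appLE c.V c.U c.e).hom.toAlgebra
    Algebra.FormallySmooth Γ(Y, c.V) Γ(X, c.U) := by
  letI := (f.appLE c.V c.U c.e).hom.toAlgebra
  refine Algebra.FormallySmooth.of_comp_surjective fun B _ _ I hI g => ?_
  let a : Spec (CommRingCat.of (B ⧸ I)) ⟶ X := ofReadHom c.hU g.toRingHom
  let b : Spec (CommRingCat.of B) ⟶ Y := ofReadHom c.hV (algebraMap Γ(Y, c.V) B)
  have hw : Spec.map (CommRingCat.ofHom (Ideal.Quotient.mk I)) ≫ b = a ≫ f := by
    refine ext_readHom c.hV (le_preimage_specMap _ (le_preimage_ofReadHom c.hV _))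
      (fun _ _ => c.e (le_preimage_ofReadHom c.hU _ trivial)) ?_
    rw [readHom_specMap _ b c.V (le_preimage_ofReadHom c.hV _), readHom_ofReadHom,
      readHom_comp a f c.e (le_preimage_ofReadHom c.hU _), readHom_ofReadHom]
    exact RingHom.ext fun s => (g.commutes s).symm
  obtain ⟨l, hl1, hl2⟩ := hf B I hI a b hw
  have hlU : ⊤ ≤ l ⁻¹ᵁ c.U :=
    le_preimage_of_nil _ Ideal.Quotient.mk_surjective
      (fun (x : B) (hx : x ∈ RingHom.ker (Ideal.Quotient.mk I)) => ⟨2, by
        rw [Ideal.mk_ker] at hx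
        simpa [hI] using Ideal.pow_mem_pow hx 2⟩) _ (by rw [hl1]; exact le_preimage_ofReadHom c.hU _)
  refine ⟨{ readHom l c.U hlU with commutes' := fun s => ?_ }, AlgHom.ext fun x => ?_⟩
  · have e1 := readHom_congr hl2 c.V (fun _ _ => c.e (hlU trivial)) (le_preimage_ofReadHom c.hV _)
    rw [readHom_comp l f c.e hlU, readHom_ofReadHom] at e1
    exact RingHom.congr_fun e1 s
  · have e1 := readHom_congr hl1 c.U (le_preimage_specMap _ hlU) (le_preimage_ofReadHom c.hU _)
    rw [readHom_specMap _ l c.U hlU, readHom_ofReadHom] at e1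
    exact RingHom.congr_fun e1 x

end Groth.L20.SmoothLocal
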