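import Mathlib.Algebra.Module.LocalizedModule.Basic
import Mathlib.RingTheory.Localization.Away.Basic
import Mathlib.LinearAlgebra.Pi

/-!
# Čech exactness and gluing of modules along a finite cover by basic opens
-/

set_option autoImplicit false
set_option linter.style.haveILetI false

universe u v w

noncomputable section

namespace Groth.L20.SmoothLocal

variable {R : Type u} [CommRing R]

section Away

variable {M M' : Type*} [AddCommGroup M] [Module R M] [AddCommGroup M'] [Module R M']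
variable (a : R) (f : M →ₗ[R] M') [IsLocalizedModule (Submonoid.powers a) f]

theorem away_surj (y : M') : ∃ (n : ℕ) (m : M), a ^ n • y = f m := by
  obtain ⟨⟨m, ⟨_, n, rfl⟩⟩, h⟩ := IsLocalizedModule.surj (Submonoid.powers a) f y
  exact ⟨n, m, h⟩

theorem away_eq {x y : M} (h : f x = f y) : ∃ n : ℕ, a ^ n • x = a ^ n • y := by
  obtain ⟨⟨_, n, rfl⟩, h⟩ := IsLocalizedModule.exists_of_eq (S := Submonoid.powers a) h
  exact ⟨n, h⟩

include f in
theorem away_smul_cancel {x y : M'} (n : ℕ) (h : a ^ n • x = a ^ n • y) : x = y :=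
  (IsLocalizedModule.smul_inj f (⟨a ^ n, n, rfl⟩ : Submonoid.powers a) x y).1 h

end Away

theorem exists_sum_mul_pow_eq_one {ι : Type*} [Fintype ι] (a : ι → R)
    (ha : Ideal.span (Set.range a) = ⊤) (N : ℕ) : ∃ c : ι → R, ∑ l, c l * a l ^ N = 1 := by
  have h := Ideal.span_pow_eq_top _ ha N
  rw [Ideal.eq_top_iff_one, ← Set.range_comp] at h
  obtain ⟨c, hc⟩ := Ideal.mem_span_range_iff_exists_fun.1 h
  exact ⟨c, hc⟩

theorem exists_pow_smul_uniform {α : Type*} [Finite α] {M : α → Type*} {P : ∀ i, M i → ℕ → Prop}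
    (x : ∀ i, M i) (hmono : ∀ i n m, n ≤ m → P i (x i) n → P i (x i) m) (h : ∀ i, ∃ n, P i (x i) n) :
    ∃ n, ∀ i, P i (x i) n := by
  choose f hf using h
  haveI := Fintype.ofFinite α
  exact ⟨Finset.univ.sup f, fun i => hmono i _ _ (Finset.le_sup (Finset.mem_univ i)) (hf i)⟩

section Cech

variable {ι : Type w} [Finite ι] (a : ι → R) {N : Type v} [AddCommGroup N] [Module R N]
  {N1 : ι → Type v} [∀ i, AddCommGroup (N1 i)] [∀ i, Module R (N1 i)]
  {N2 : ι → ι → Type v} [∀ i j, AddCommGroup (N2 i j)] [∀ i j, Module R (N2 i j)]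
  {N3 : ι → ι → ι → Type v} [∀ i j k, AddCommGroup (N3 i j k)] [∀ i j k, Module R (N3 i j k)]
  (f : ∀ i, N →ₗ[R] N1 i) [∀ i, IsLocalizedModule (Submonoid.powers (a i)) (f i)]
  (g : ∀ i j, N →ₗ[R] N2 i j) [∀ i j, IsLocalizedModule (Submonoid.powers (a i * a j)) (g i j)]
  (g3 : ∀ i j k, N →ₗ[R] N3 i j k)
  [∀ i j k, IsLocalizedModule (Submonoid.powers (a i * a j * a k)) (g3 i j k)]

/-- Every Čech one-cocycle of a module is a coboundary. -/
theorem cech_exact (ha : Ideal.span (Set.range a) = ⊤)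
    (l : ∀ i j, N1 i →ₗ[R] N2 i j) (r : ∀ i j, N1 j →ₗ[R] N2 i j)
    (hl : ∀ i j x, l i j (f i x) = g i j x) (hr : ∀ i j x, r i j (f j x) = g i j x)
    (u : ∀ i j k, N2 i j →ₗ[R] N3 i j k) (v : ∀ i j k, N2 i k →ₗ[R] N3 i j k)
    (t : ∀ i j k, N2 j k →ₗ[R] N3 i j k)
    (hu : ∀ i j k x, u i j k (g i j x) = g3 i j k x) (hv : ∀ i j k x, v i j k (g i k x) = g3 i j k x)
    (ht : ∀ i j k x, t i j k (g j k x) = g3 i j k x)
    (z : ∀ i j, N2 i j) (hz : ∀ i j k, u i j k (z i j) + t i j k (z j k) = v i j k (z i k)) :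
    ∃ η : ∀ i, N1 i, ∀ i j, z i j = r i j (η j) - l i j (η i) := by
  classical
  haveI := Fintype.ofFinite ι
  -- common denominators
  obtain ⟨n, hn⟩ : ∃ n, ∀ p : ι × ι, ∃ m : N, (a p.1 * a p.2) ^ n • z p.1 p.2 = g p.1 p.2 m :=
    exists_pow_smul_uniform (M := fun p : ι × ι => N2 p.1 p.2)
      (P := fun p x n => ∃ m : N, (a p.1 * a p.2) ^ n • x = g p.1 p.2 m) (fun p => z p.1 p.2)
      (fun p n m hnm ⟨x, hx⟩ => ⟨(a p.1 * a p.2) ^ (m - n) • x, by
        rw [map_smul, ← hx, smul_smul, ← pow_add, Nat.sub_add_cancel hnm]⟩)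
      (fun p => away_surj _ (g p.1 p.2) _)
  choose m hm using hn
  let e : ι → ι → ι → N := fun i j k =>
    a k ^ n • m (i, j) + a i ^ n • m (j, k) - a j ^ n • m (i, k)
  obtain ⟨s, hs⟩ : ∃ s, ∀ q : ι × ι × ι, (a q.1 * a q.2.1 * a q.2.2) ^ s • e q.1 q.2.1 q.2.2 = 0 := by
    refine exists_pow_smul_uniform (M := fun _ : ι × ι × ι => N)
      (P := fun q x s => (a q.1 * a q.2.1 * a q.2.2) ^ s • x = 0) (fun q => e q.1 q.2.1 q.2.2)
      (fun q s t hst hx => by rw [← Nat.sub_add_cancel hst, pow_add, mul_smul, hx, smul_zero]) ?_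
    rintro ⟨i, j, k⟩
    have h0 : g3 i j k (e i j k) = g3 i j k 0 := by
      simp only [e, map_sub, map_add, map_smul, map_zero]
      rw [← hu i j k (m (i, j)), ← ht i j k (m (j, k)), ← hv i j k (m (i, k)), ← hm (i, j),
        ← hm (j, k), ← hm (i, k)]
      simp only [map_smul, smul_smul, ← mul_pow]
      rw [show a k * (a i * a j) = a i * a j * a k by ring,
        show a i * (a j * a k) = a i * a j * a k by ring,
        show a j * (a i * a k) = a i * a j * a k by ring, ← smul_add, ← smul_sub, hz, sub_self,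
        smul_zero]
    obtain ⟨s, hs⟩ := away_eq (a i * a j * a k) (g3 i j k) h0
    exact ⟨s, by simpa using hs⟩
  -- normalise
  let M : ι → ι → N := fun i j => (a i * a j) ^ s • m (i, j)
  have hM : ∀ i j, (a i * a j) ^ (n + s) • z i j = g i j (M i j) := fun i j => by
    simp only [M, map_smul, ← hm (i, j)]
    rw [smul_smul, ← pow_add, add_comm]
  have hrel : ∀ i j k, a k ^ (n + s) • M i j + a i ^ (n + s) • M j k - a j ^ (n + s) • M i k = 0 :=
    fun i j k => by
      have h := hs (i, j, k)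
      simp only [e, smul_sub, smul_add, smul_smul] at h
      simp only [M, smul_smul]
      rw [show a k ^ (n + s) * (a i * a j) ^ s = (a i * a j * a k) ^ s * a k ^ n by ring,
        show a i ^ (n + s) * (a j * a k) ^ s = (a i * a j * a k) ^ s * a i ^ n by ring,
        show a j ^ (n + s) * (a i * a k) ^ s = (a i * a j * a k) ^ s * a j ^ n by ring]
      exact h
  obtain ⟨c, hc⟩ := exists_sum_mul_pow_eq_one a ha (n + s)
  have hunit : ∀ j, IsUnit (algebraMap R (Module.End R (N1 j)) (a j ^ (n + s))) := fun j =>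
    IsLocalizedModule.map_units (f j) (⟨a j ^ (n + s), n + s, rfl⟩ : Submonoid.powers (a j))
  choose η hη using fun j => ((Module.End.isUnit_iff _).1 (hunit j)).2 (f j (∑ p, c p • M p j))
  simp only [Module.algebraMap_end_apply] at hη
  refine ⟨η, fun i j => away_smul_cancel (a i * a j) (g i j) (n + s) ?_⟩
  have h1 : (a i * a j) ^ (n + s) • r i j (η j) = g i j (a i ^ (n + s) • ∑ p, c p • M p j) := by
    rw [mul_pow, mul_smul, ← map_smul (r i j), hη, hr, map_smul]
  have h2 : (a i * a j) ^ (n + s) • l i j (η i) = g i j (a j ^ (n + s) • ∑ p, c p • M p i) := by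
    rw [mul_pow, mul_comm (a i ^ _), mul_smul, ← map_smul (l i j), hη, hl, map_smul]
  rw [smul_sub, h1, h2, ← map_sub, hM]
  congr 1
  rw [Finset.smul_sum, Finset.smul_sum, ← Finset.sum_sub_distrib]
  have h3 : ∀ p, a i ^ (n + s) • c p • M p j - a j ^ (n + s) • c p • M p i =
      (c p * a p ^ (n + s)) • M i j := fun p => by
    have h := hrel p i j
    rw [sub_eq_zero] at h
    rw [smul_comm (a i ^ (n + s)), smul_comm (a j ^ (n + s)), ← smul_sub, mul_smul, ← h]
    congr 1
    abel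
  simp_rw [h3]
  rw [← Finset.sum_smul, hc, one_smul]

end Cech

section Glue

variable {ι : Type w} (a : ι → R) {P1 : ι → Type v} [∀ i, AddCommGroup (P1 i)]
  [∀ i, Module R (P1 i)] {P2 : ι → ι → Type v} [∀ i j, AddCommGroup (P2 i j)]
  [∀ i j, Module R (P2 i j)] (l : ∀ i j, P1 i →ₗ[R] P2 i j) (r : ∀ i j, P1 j →ₗ[R] P2 i j)

/-- The module glued from modules on a cover. -/
def glued : Submodule R (∀ i, P1 i) where
  carrier := {p | ∀ i j, l i j (p i) = r i j (p j)}
  add_mem' := fun hp hq i j => by simp [hp i j, hq i j]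
  zero_mem' := fun i j => by simp
  smul_mem' := fun c p hp i j => by simp [hp i j]

/-- The restriction from the glued module. -/
def gluedProj (k : ι) : glued l r →ₗ[R] P1 k := (LinearMap.proj k).comp (glued l r).subtype

theorem gluedProj_compat (p : glued l r) (i j : ι) :
    l i j (gluedProj l r i p) = r i j (gluedProj l r j p) := p.2 i j

variable [Finite ι] [∀ i j, IsLocalizedModule (Submonoid.powers (a j)) (l i j)]

theorem isLocalizedModule_gluedProj (hunit : ∀ i, IsUnit (algebraMap R (Module.End R (P1 i)) (a i)))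
    (hdiag : ∀ i, l i i = r i i) {P3 : ι → ι → ι → Type v} [∀ i j k, AddCommGroup (P3 i j k)]
    [∀ i j k, Module R (P3 i j k)] (u : ∀ i j k, P2 i j →ₗ[R] P3 i j k)
    [∀ i j k, IsLocalizedModule (Submonoid.powers (a k)) (u i j k)]
    (v : ∀ i j k, P2 i k →ₗ[R] P3 i j k) (t : ∀ i j k, P2 j k →ₗ[R] P3 i j k)
    (h1 : ∀ i j k x, u i j k (l i j x) = v i j k (l i k x))
    (h2 : ∀ i j k x, u i j k (r i j x) = t i j k (l j k x))
    (h3 : ∀ i j k x, v i j k (r i k x) = t i j k (r j k x)) (k : ι) :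
    IsLocalizedModule (Submonoid.powers (a k)) (gluedProj l r k) := by
  refine ⟨?_, ?_, ?_⟩
  · rintro ⟨_, n, rfl⟩
    simpa [map_pow] using (hunit k).pow n
  · intro q
    obtain ⟨n, hn⟩ : ∃ n, ∀ i, ∃ p : P1 i, a k ^ n • r i k q = l i k p :=
      exists_pow_smul_uniform (M := fun i => P2 i k)
        (P := fun i x n => ∃ p : P1 i, a k ^ n • x = l i k p) (fun i => r i k q)
        (fun i n m hnm ⟨p, hp⟩ => ⟨a k ^ (m - n) • p, by
          rw [map_smul, ← hp, smul_smul, ← pow_add, Nat.sub_add_cancel hnm]⟩)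
        (fun i => away_surj _ (l i k) _)
    choose p hp using hn
    have key : ∀ x : ι × ι, ∃ s : ℕ, a k ^ s • l x.1 x.2 (p x.1) = a k ^ s • r x.1 x.2 (p x.2) := by
      rintro ⟨i, j⟩
      refine away_eq _ (u i j k) ?_
      rw [h1, h2, ← hp, ← hp, map_smul, map_smul, h3]
    obtain ⟨s, hs⟩ := exists_pow_smul_uniform (M := fun _ : ι × ι => Unit)
      (P := fun x _ s => a k ^ s • l x.1 x.2 (p x.1) = a k ^ s • r x.1 x.2 (p x.2)) (fun _ => ())
      (fun x s t hst hx => by rw [← Nat.sub_add_cancel hst, pow_add, mul_smul, mul_smul, hx]) key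
    refine ⟨(⟨fun i => a k ^ s • p i, fun i j => by simpa using hs (i, j)⟩,
      ⟨a k ^ (s + n), s + n, rfl⟩), ?_⟩
    have hk : a k ^ n • q = p k := by
      have h := hp k
      rw [← hdiag, ← map_smul] at h
      obtain ⟨m, hm⟩ := away_eq (a k) (l k k) h
      exact (Module.End.isUnit_iff _).1 ((hunit k).pow m) |>.1 (by rw [← map_pow]; exact hm)
    show a k ^ (s + n) • q = a k ^ s • p k
    rw [pow_add, mul_smul, hk]
  · intro x y hxy
    have key : ∀ i, ∃ n : ℕ, a k ^ n • x.1 i = a k ^ n • y.1 i := fun i => by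
      refine away_eq _ (l i k) ?_
      rw [x.2 i k, y.2 i k]
      exact congrArg _ hxy
    obtain ⟨n, hn⟩ := exists_pow_smul_uniform (M := fun _ : ι => Unit)
      (P := fun i _ n => a k ^ n • x.1 i = a k ^ n • y.1 i) (fun _ => ())
      (fun i s t hst hx => by rw [← Nat.sub_add_cancel hst, pow_add, mul_smul, mul_smul, hx]) key
    exact ⟨⟨a k ^ n, n, rfl⟩, Subtype.ext (funext hn)⟩

end Glue

end Groth.L20.SmoothLocal
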