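import Groth.Agent.S0585
import Groth.Agent.L20.SmoothLocal.Cech
import Mathlib.RingTheory.Flat.FaithfullyFlat.Algebra
import Mathlib.RingTheory.Localization.BaseChange
import Mathlib.LinearAlgebra.TensorProduct.Pi
import Mathlib.Algebra.Module.Projective

/-!
# Zariski locally projective modules are projective
-/

set_option autoImplicit false
set_option backward.isDefEq.respectTransparency.types false
set_option linter.style.haveILetI false

universe u

open TensorProduct

noncomputable section

namespace Groth.L20.SmoothLocal

theorem projective_pi {ι : Type*} [Finite ι] {R : ι → Type u} [∀ i, CommRing (R i)]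
    {Q : ι → Type u} [∀ i, AddCommGroup (Q i)] [∀ i, Module (R i) (Q i)]
    [∀ i, Module.Projective (R i) (Q i)] : Module.Projective (∀ i, R i) (∀ i, Q i) := by
  classical
  haveI := Fintype.ofFinite ι
  choose s hs using fun i => (Module.projective_def.1 inferInstance :
    ∃ s : Q i →ₗ[R i] Q i →₀ R i, Function.LeftInverse (Finsupp.linearCombination (R i) id) s)
  let E : ∀ i, (Q i →₀ R i) →+ ((∀ i, Q i) →₀ ∀ i, R i) := fun i =>
    (Finsupp.mapDomain.addMonoidHom (fun q : Q i => Pi.single i q)).comp
      (Finsupp.mapRange.addMonoidHom (AddMonoidHom.single R i))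
  have hE : ∀ i (q : Q i) (r : R i),
      E i (Finsupp.single q r) = Finsupp.single (Pi.single i q) (Pi.single i r) := fun i q r => by
    simp [E]
  have hsmul : ∀ i (b : ∀ i, R i) (x : Q i →₀ R i), E i (b i • x) = b • E i x := by
    intro i b x
    induction x using Finsupp.induction_linear with
    | zero => simp
    | add x y hx hy => rw [smul_add, map_add, map_add, hx, hy, smul_add]
    | single q r =>
      rw [Finsupp.smul_single, hE, hE, Finsupp.smul_single]
      congr 1
      funext j
      rcases eq_or_ne j i with rfl | hj
      · simp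
      · simp [hj]
  let t : (∀ i, Q i) →ₗ[∀ i, R i] ((∀ i, Q i) →₀ ∀ i, R i) :=
    { toFun := fun q => ∑ i, E i (s i (q i))
      map_add' := fun q q' => by simp only [Pi.add_apply, map_add, Finset.sum_add_distrib]
      map_smul' := fun b q => by
        rw [RingHom.id_apply, Finset.smul_sum]
        refine Finset.sum_congr rfl fun i _ => ?_
        rw [Pi.smul_apply', map_smul, hsmul] }
  refine Module.projective_def.2 ⟨t, fun q => ?_⟩
  have key : ∀ i (x : Q i →₀ R i),
      Finsupp.linearCombination (∀ i, R i) id (E i x) = Pi.single i (Finsupp.linearCombination (R i) id x) := by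
    intro i x
    induction x using Finsupp.induction_linear with
    | zero => simp
    | add x y hx hy => rw [map_add, map_add, hx, hy, map_add, Pi.single_add]
    | single q r =>
      rw [hE, Finsupp.linearCombination_single, Finsupp.linearCombination_single]
      funext j
      rcases eq_or_ne j i with rfl | hj
      · simp
      · simp [hj]
  show Finsupp.linearCombination _ id (∑ i, E i (s i (q i))) = q
  simp only [map_sum, key, hs _ _]
  exact Finset.univ_sum_single q

variable {A0 : Type u} [CommRing A0] {ι : Type} [Finite ι] (a : ι → A0)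

theorem faithfullyFlat_pi (ha : Ideal.span (Set.range a) = ⊤) :
    Module.FaithfullyFlat A0 (∀ i, Localization.Away (a i)) := by
  classical
  haveI := Fintype.ofFinite ι
  haveI : ∀ i, Module.Flat A0 (Localization.Away (a i)) := fun i =>
    IsLocalization.flat _ (Submonoid.powers (a i))
  haveI : Module.Flat A0 (∀ i, Localization.Away (a i)) :=
    Module.Flat.of_linearEquiv (DFinsupp.linearEquivFunOnFintype (R := A0)).symm
  refine Module.FaithfullyFlat.of_comap_surjective fun P => ?_
  have : ∃ i, a i ∉ P.asIdeal := by
    by_contra! h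
    apply P.2.ne_top
    rwa [← top_le_iff, ← ha, Ideal.span_le, Set.range_subset_iff]
  obtain ⟨i, hi⟩ := this
  obtain ⟨Q, hQ⟩ : P ∈ Set.range (PrimeSpectrum.comap (algebraMap A0 (Localization.Away (a i)))) := by
    rw [PrimeSpectrum.localization_away_comap_range (Localization.Away (a i)) (a i)]
    exact hi
  refine ⟨PrimeSpectrum.comap (Pi.evalRingHom (fun j => Localization.Away (a j)) i) Q, ?_⟩
  rw [← hQ, ← PrimeSpectrum.comap_comp_apply]
  rfl

variable {P : Type u} [AddCommGroup P] [Module A0 P] {Q : ι → Type u} [∀ i, AddCommGroup (Q i)]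
  [∀ i, Module A0 (Q i)] [∀ i, Module (Localization.Away (a i)) (Q i)]
  [∀ i, IsScalarTower A0 (Localization.Away (a i)) (Q i)]

theorem projective_of_cover (ha : Ideal.span (Set.range a) = ⊤) (f : ∀ i, P →ₗ[A0] Q i)
    [∀ i, IsLocalizedModule (Submonoid.powers (a i)) (f i)]
    [∀ i, Module.Projective (Localization.Away (a i)) (Q i)] : Module.Projective A0 P := by
  classical
  haveI := Fintype.ofFinite ι
  haveI := faithfullyFlat_pi a ha
  haveI : IsScalarTower A0 (∀ i, Localization.Away (a i)) (∀ i, Q i) :=
    IsScalarTower.of_algebraMap_smul fun r q => funext fun i => algebraMap_smul _ r (q i)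
  let Ψ : (∀ i, Localization.Away (a i)) ⊗[A0] P →ₗ[∀ i, Localization.Away (a i)] ∀ i, Q i :=
    LinearMap.liftBaseChange _ (LinearMap.pi f)
  let e : ∀ i, Localization.Away (a i) ⊗[A0] P ≃ₗ[Localization.Away (a i)] Q i := fun i =>
    (IsLocalizedModule.isBaseChange (Submonoid.powers (a i)) (Localization.Away (a i)) (f i)).equiv
  let e' : (∀ i, Localization.Away (a i)) ⊗[A0] P ≃ₗ[A0] ∀ i, Q i :=
    TensorProduct.piLeft (R := A0) (N := P) (M := fun i => Localization.Away (a i)) ≪≫ₗ
      LinearEquiv.piCongrRight fun i => (e i).restrictScalars A0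
  have he : ∀ x, Ψ x = e' x := by
    intro x
    induction x using TensorProduct.induction_on with
    | zero => simp
    | add x y hx hy => rw [map_add, map_add, hx, hy]
    | tmul b p =>
      funext i
      simp [Ψ, e', e, IsBaseChange.equiv_tmul]
  have hbij : Function.Bijective Ψ := by
    rw [show ⇑Ψ = ⇑e' from funext he]
    exact e'.bijective
  haveI : Module.Projective (∀ i, Localization.Away (a i)) (∀ i, Q i) := projective_pi
  haveI : Module.Projective (∀ i, Localization.Away (a i))
      ((∀ i, Localization.Away (a i)) ⊗[A0] P) :=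
    Module.Projective.of_equiv (LinearEquiv.ofBijective Ψ hbij).symm
  exact Groth.Agent.S0585.result A0 (∀ i, Localization.Away (a i)) P

end Groth.L20.SmoothLocal
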