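import Groth.Agent.L20.SpaceLocal.Main
import Groth.Agent.S9447
import Mathlib.RingTheory.RingHom.Smooth
import Mathlib.AlgebraicGeometry.Morphisms.RingHomProperties
import Mathlib.AlgebraicGeometry.Morphisms.Descent

/-!
# Formal smoothness of morphisms of schemes as a local property of ring maps
-/

set_option autoImplicit false
set_option backward.isDefEq.respectTransparency.types false
set_option linter.style.haveILetI false

universe u

open CategoryTheory CategoryTheory.Limits AlgebraicGeometry Groth.L20.SpaceLocal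

noncomputable section

namespace Groth.L20.SmoothLocal

variable {X Y Z : Scheme.{u}}

theorem isFormallySmoothHom_comp {f : X ⟶ Y} {g : Y ⟶ Z} (hf : MoreMor.IsFormallySmoothHom f)
    (hg : MoreMor.IsFormallySmoothHom g) : MoreMor.IsFormallySmoothHom (f ≫ g) := by
  intro A _ I hI a b e
  obtain ⟨l, hl₁, hl₂⟩ := hg A I hI (a ≫ f) b (by rw [e, Category.assoc])
  obtain ⟨l', hl'₁, hl'₂⟩ := hf A I hI a l hl₁
  exact ⟨l', hl'₁, by rw [← Category.assoc, hl'₂, hl₂]⟩

theorem isFormallySmoothHom_of_etale (f : X ⟶ Y) [Etale f] : MoreMor.IsFormallySmoothHom f :=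
  ((Groth.Agent.S1488.result f).1 inferInstance).2

theorem isFormallySmoothHom_specMap {R S : Type u} [CommRing R] [CommRing S] {φ : R →+* S}
    (h : φ.FormallySmooth) : MoreMor.IsFormallySmoothHom (Spec.map (CommRingCat.ofHom φ)) := by
  intro A _ I hI a b e
  obtain ⟨g, rfl⟩ : ∃ g : S →+* A ⧸ I, Spec.map (CommRingCat.ofHom g) = a :=
    ⟨(Spec.preimage a).hom, Spec.map_preimage _⟩
  obtain ⟨ψ, rfl⟩ : ∃ ψ : R →+* A, Spec.map (CommRingCat.ofHom ψ) = b :=
    ⟨(Spec.preimage b).hom, Spec.map_preimage _⟩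
  rw [← Spec.map_comp, ← Spec.map_comp, ← CommRingCat.ofHom_comp, ← CommRingCat.ofHom_comp] at e
  have e' : (Ideal.Quotient.mk I).comp ψ = g.comp φ :=
    congrArg CommRingCat.Hom.hom (Spec.map_injective e)
  letI := φ.toAlgebra
  letI := ψ.toAlgebra
  haveI : Algebra.FormallySmooth R S := h
  let g' : S →ₐ[R] A ⧸ I := { g with commutes' := fun r => (RingHom.congr_fun e' r).symm }
  obtain ⟨L, hL⟩ := Algebra.FormallySmooth.exists_lift (R := R) (A := S) I ⟨2, hI⟩ g'
  refine ⟨Spec.map (CommRingCat.ofHom L.toRingHom), ?_, ?_⟩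
  · rw [← Spec.map_comp, ← CommRingCat.ofHom_comp]
    congr 2
    exact congrArg AlgHom.toRingHom hL
  · rw [← Spec.map_comp, ← CommRingCat.ofHom_comp]
    congr 2
    exact L.comp_algebraMap

theorem formallySmooth_appLE_of_hom {f : X ⟶ Y} {U : X.Opens} {V : Y.Opens} (hU : IsAffineOpen U)
    (hV : IsAffineOpen V) (e : U ≤ f ⁻¹ᵁ V) (h : MoreMor.IsFormallySmoothHom (U.ι ≫ f)) :
    (f.appLE V U e).hom.FormallySmooth := by
  refine formallySmooth_of_specMap _ (formallySmoothHom_of_etale_square hU.isoSpec.inv hV.fromSpec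
    ?_ h)
  rw [CommRingCat.ofHom_hom, IsAffineOpen.SpecMap_appLE_fromSpec f hV hU e]
  rfl

theorem isFormallySmoothHom_of_local {f : X ⟶ Y}
    (h : ∀ x : X, ∃ U : X.Opens, x ∈ U ∧ MoreMor.IsFormallySmoothHom (U.ι ≫ f)) :
    MoreMor.IsFormallySmoothHom f := by
  refine isFormallySmoothHom_of_charts fun x => ?_
  obtain ⟨U, hxU, hU⟩ := h x
  obtain ⟨_, ⟨V, hV, rfl⟩, hxV, -⟩ :=
    Y.isBasis_affineOpens.exists_subset_of_mem_open (Set.mem_univ (f x)) isOpen_univ
  obtain ⟨_, ⟨U', hU', rfl⟩, hxU', hle⟩ := X.isBasis_affineOpens.exists_subset_of_mem_open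
    (show x ∈ U ⊓ f ⁻¹ᵁ V from ⟨hxU, hxV⟩) (U ⊓ f ⁻¹ᵁ V).isOpen
  refine ⟨⟨U', V, hU', hV, fun y hy => (hle hy).2⟩, hxU', formallySmooth_appLE_of_hom hU' hV _ ?_⟩
  rw [← X.homOfLE_ι (show U' ≤ U from fun y hy => (hle hy).1), Category.assoc]
  exact isFormallySmoothHom_comp (isFormallySmoothHom_of_etale _) hU

theorem ofLocalizationSpanTarget_formallySmooth :
    RingHom.OfLocalizationSpanTarget RingHom.FormallySmooth := by
  intro R S _ _ φ s hs h
  refine formallySmooth_of_specMap φ (isFormallySmoothHom_of_local fun x => ?_)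
  obtain ⟨t, ht, htx⟩ : ∃ t ∈ s, t ∉ x.asIdeal := by
    by_contra hc
    push_neg at hc
    exact x.isPrime.ne_top (top_le_iff.1 (hs ▸ Ideal.span_le.2 hc))
  let j : Spec (CommRingCat.of (Localization.Away t)) ⟶ Spec (CommRingCat.of S) :=
    Spec.map (CommRingCat.ofHom (algebraMap S (Localization.Away t)))
  have hr : Set.range j = (PrimeSpectrum.basicOpen t : Set (PrimeSpectrum S)) :=
    PrimeSpectrum.localization_away_comap_range (Localization.Away t) t
  refine ⟨j.opensRange, ?_, ?_⟩
  · show x ∈ Set.range j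
    rw [hr]
    exact htx
  · have e : j.opensRange.ι = j.isoOpensRange.inv ≫ j := by
      rw [Iso.eq_inv_comp, Scheme.Hom.isoOpensRange_hom_ι]
    rw [e, Category.assoc]
    refine isFormallySmoothHom_comp (isFormallySmoothHom_of_etale _) ?_
    rw [← Spec.map_comp, ← CommRingCat.ofHom_comp]
    exact isFormallySmoothHom_specMap (h ⟨t, ht⟩)

theorem propertyIsLocal_formallySmooth : RingHom.PropertyIsLocal RingHom.FormallySmooth := by
  have hc := RingHom.FormallySmooth.stableUnderComposition.stableUnderCompositionWithLocalizationAway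
    RingHom.FormallySmooth.holdsForLocalizationAway
  exact ⟨RingHom.FormallySmooth.localizationPreserves.away, ofLocalizationSpanTarget_formallySmooth,
    ofLocalizationSpanTarget_formallySmooth.ofLocalizationSpan hc.left, hc.right⟩

instance hasRingHomProperty_formallySmoothHom :
    HasRingHomProperty (@MoreMor.IsFormallySmoothHom : MorphismProperty Scheme.{u})
      RingHom.FormallySmooth where
  isLocal_ringHomProperty := propertyIsLocal_formallySmooth
  eq_affineLocally' := by
    ext X Y f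
    rw [affineLocally_iff_forall_isAffineOpen]
    refine ⟨fun hf V hV U hU e => formallySmooth_of_isFormallySmoothHom hf ⟨U, V, hU, hV, e⟩,
      fun hf => isFormallySmoothHom_of_charts fun x => ?_⟩
    obtain ⟨c, hc⟩ := exists_chart f x
    exact ⟨c, hc, hf c.hV c.hU c.e⟩

theorem codescendsAlong_formallySmooth :
    RingHom.CodescendsAlong RingHom.FormallySmooth RingHom.FaithfullyFlat := by
  refine .mk _ RingHom.FormallySmooth.respectsIso fun R S T _ _ _ _ _ h h' => ?_
  rw [RingHom.formallySmooth_algebraMap] at h' ⊢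
  rw [RingHom.faithfullyFlat_algebraMap_iff] at h
  exact (Groth.Agent.S9447.result R T S).2 h'

end Groth.L20.SmoothLocal
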