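import Groth.Agent.L20.SmoothLocal.Thick
import Groth.Agent.L20.SmoothLocal.ProjLocal
import Mathlib.Algebra.Module.FinitePresentation
import Mathlib.RingTheory.LocalProperties.FinitePresentation
import Mathlib.AlgebraicGeometry.Cover.Open
import Mathlib.AlgebraicGeometry.Gluing

/-!
# Global lifts from local lifts along square-zero extensions of affine schemes
-/

set_option autoImplicit false
set_option backward.isDefEq.respectTransparency.types false
set_option linter.style.haveILetI false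
set_option linter.unusedVariables false

universe u

open CategoryTheory CategoryTheory.Limits AlgebraicGeometry Opposite TopologicalSpace

noncomputable section

namespace Groth.L20.SmoothLocal

theorem isLocalizedModule_llcomp {R : Type u} [CommRing R] {P N N' : Type u} [AddCommGroup P]
    [Module R P] [AddCommGroup N] [Module R N] [AddCommGroup N'] [Module R N']
    [Module.FinitePresentation R P] (S : Submonoid R) (g : N →ₗ[R] N') [IsLocalizedModule S g] :
    IsLocalizedModule S (LinearMap.compRight R g : (P →ₗ[R] N) →ₗ[R] P →ₗ[R] N') := by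
  refine ⟨fun s => ?_, fun h => ?_, fun {h₁ h₂} e => ?_⟩
  · rw [Module.End.isUnit_iff]
    have hu := (Module.End.isUnit_iff _).1 (IsLocalizedModule.map_units g s)
    refine ⟨fun x y hxy => LinearMap.ext fun p => hu.1 (LinearMap.congr_fun hxy p), fun x => ?_⟩
    refine ⟨((IsLocalizedModule.map_units g s).unit⁻¹).1.comp x, LinearMap.ext fun p => ?_⟩
    exact Module.End.isUnit_apply_inv_apply_of_isUnit (IsLocalizedModule.map_units g s) (x p)
  · obtain ⟨h', s, e⟩ := Module.FinitePresentation.exists_lift_of_isLocalizedModule S g h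
    exact ⟨(h', s), e.symm⟩
  · exact Module.Finite.exists_smul_of_comp_eq_of_isLocalizedModule S g h₁ h₂ e

variable {A A0 : Type u} [CommRing A] [CommRing A0] {X Y : Scheme.{u}}
  {𝔗 : SqExt A A0} {f : X ⟶ Y} {a : Spec (CommRingCat.of A) ⟶ Y}
  {a0 : Spec (CommRingCat.of A0) ⟶ X} {𝔄 : Atlas f a0} {α : 𝔄.ι → A}

section DCls

variable (hα : ∀ i, 𝔗.π (α i) = 𝔄.a i)

include hα in
theorem isUnit_of_dvd_w {i : 𝔄.ι} {w : A} (h : α i ∣ w) :
    IsUnit (algebraMap A0 (𝔗.R w) (𝔄.a i)) :=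
  isUnit_of_dvd_unit (map_dvd _ (hα i ▸ map_dvd 𝔗.π h)) (IsLocalization.Away.algebraMap_isUnit _)

/-- The class of the difference of two lifts. -/
def dCls (i : 𝔄.ι) {w : A} (h : α i ∣ w) {b b' : Spec (CommRingCat.of (SqExt.T w)) ⟶ X}
    (hb : IsLift 𝔗 f a a0 w b) (hb' : IsLift 𝔗 f a a0 w b') : 𝔄.P →ₗ[A0] 𝔗.I w :=
  𝔄.cls i (isUnit_of_dvd_w hα h)
    (exists_diff hb hb' (𝔄.small' (isUnit_of_dvd_w hα h))).choose

theorem der_choose_diff (i : 𝔄.ι) {w : A} (h : α i ∣ w)
    {b b' : Spec (CommRingCat.of (SqExt.T w)) ⟶ X}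
    (hb : IsLift 𝔗 f a a0 w b) (hb' : IsLift 𝔗 f a a0 w b') (c : Chart f)
    (hc : Small a0 (𝔗.R w) c) :
    (exists_diff hb hb' (𝔄.small' (isUnit_of_dvd_w hα h))).choose.der hc = diffDer hb hb' hc :=
  (exists_diff hb hb' (𝔄.small' (isUnit_of_dvd_w hα h))).choose_spec c hc

theorem dCls_indep (i j : 𝔄.ι) {w : A} (h : α i ∣ w) (h' : α j ∣ w)
    {b b' : Spec (CommRingCat.of (SqExt.T w)) ⟶ X}
    (hb : IsLift 𝔗 f a a0 w b) (hb' : IsLift 𝔗 f a a0 w b') :
    dCls hα i h hb hb' = dCls hα j h' hb hb' := by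
  rw [dCls, dCls, 𝔄.cls_indep i j _ (isUnit_of_dvd_w hα h')]

theorem dCls_add (i : 𝔄.ι) {w : A} (h : α i ∣ w)
    {b b' b'' : Spec (CommRingCat.of (SqExt.T w)) ⟶ X} (hb : IsLift 𝔗 f a a0 w b)
    (hb' : IsLift 𝔗 f a a0 w b') (hb'' : IsLift 𝔗 f a a0 w b'') :
    dCls hα i h hb hb'' = dCls hα i h hb hb' + dCls hα i h hb' hb'' :=
  𝔄.cls_add i _ (by
    rw [der_choose_diff hα i h hb hb'', der_choose_diff hα i h hb hb',
      der_choose_diff hα i h hb' hb'']
    exact diffDer_add hb hb' hb'' _)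

theorem dCls_self (i : 𝔄.ι) {w : A} (h : α i ∣ w)
    {b : Spec (CommRingCat.of (SqExt.T w)) ⟶ X} (hb : IsLift 𝔗 f a a0 w b) :
    dCls hα i h hb hb = 0 := by
  have := dCls_add hα i h hb hb hb
  simpa using this.symm

theorem dCls_symm (i : 𝔄.ι) {w : A} (h : α i ∣ w)
    {b b' : Spec (CommRingCat.of (SqExt.T w)) ⟶ X} (hb : IsLift 𝔗 f a a0 w b)
    (hb' : IsLift 𝔗 f a a0 w b') : dCls hα i h hb' hb = - dCls hα i h hb hb' := by
  rw [eq_neg_iff_add_eq_zero, ← dCls_add, dCls_self]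

theorem eq_of_dCls_eq_zero (i : 𝔄.ι) {w : A} (h : α i ∣ w)
    {b b' : Spec (CommRingCat.of (SqExt.T w)) ⟶ X} (hb : IsLift 𝔗 f a a0 w b)
    (hb' : IsLift 𝔗 f a a0 w b') (h0 : dCls hα i h hb hb' = 0) : b = b' := by
  refine eq_of_diffDer_eq_zero hb hb' (𝔄.small' (isUnit_of_dvd_w hα h)) ?_
  rw [← der_choose_diff hα i h hb hb']
  exact (𝔄.cls_eq_zero_iff i _).1 h0

theorem dCls_res (i : 𝔄.ι) {w v : A} (h : α i ∣ w) (hwv : w ∣ v)
    {b b' : Spec (CommRingCat.of (SqExt.T w)) ⟶ X} (hb : IsLift 𝔗 f a a0 w b)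
    (hb' : IsLift 𝔗 f a a0 w b') :
    dCls hα i (h.trans hwv) (hb.restrict hwv) (hb'.restrict hwv) =
      (𝔗.resI hwv).comp (dCls hα i h hb hb') := by
  rw [dCls, dCls, ← 𝔄.cls_map i (isUnit_of_dvd_w hα h) _ (𝔗.resR hwv) (𝔗.resI hwv)
    (fun r m => 𝔗.resI_smul hwv r m) (isUnit_of_dvd_w hα (h.trans hwv))]
  congr 1
  refine Pt.ext_der ((𝔄.small' (isUnit_of_dvd_w hα h)).map (𝔗.resR hwv)) ?_
  rw [Pt.der_map _ (𝔗.resR hwv) _ _ (𝔄.small' (isUnit_of_dvd_w hα h)),
    der_choose_diff hα i (h.trans hwv) (hb.restrict hwv) (hb'.restrict hwv),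
    der_choose_diff hα i h hb hb']
  exact AddMonoidHom.ext fun x => diffDer_res hb hb' hwv _ x

theorem exists_dCls_eq (i : 𝔄.ι) {w : A} (h : α i ∣ w)
    {b : Spec (CommRingCat.of (SqExt.T w)) ⟶ X} (hb : IsLift 𝔗 f a a0 w b)
    (θ : 𝔄.P →ₗ[A0] 𝔗.I w) :
    ∃ (b' : Spec (CommRingCat.of (SqExt.T w)) ⟶ X) (hb' : IsLift 𝔗 f a a0 w b'),
      dCls hα i h hb hb' = θ := by
  obtain ⟨q, rfl⟩ := 𝔄.cls_surj i (isUnit_of_dvd_w hα h) θ
  obtain ⟨b', hb', e⟩ := exists_translate hb (𝔄.small' (isUnit_of_dvd_w hα h)) (q.isDer_der _)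
  refine ⟨b', hb', ?_⟩
  rw [dCls]
  congr 1
  refine Pt.ext_der (𝔄.small' (isUnit_of_dvd_w hα h)) ?_
  rw [der_choose_diff hα i h hb hb', e]

end DCls

/-- The charts make the glued module either projective or finitely presented. -/
def GoodCharts (𝔄 : Atlas f a0) : Prop :=
  (∀ i, letI := (f.appLE (𝔄.c i).V (𝔄.c i).U (𝔄.c i).e).hom.toAlgebra
    Algebra.FormallySmooth Γ(Y, (𝔄.c i).V) Γ(X, (𝔄.c i).U)) ∨
  (∀ i, (f.appLE (𝔄.c i).V (𝔄.c i).U (𝔄.c i).e).hom.FinitePresentation)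

theorem projective_or_fp (h : GoodCharts 𝔄) :
    Module.Projective A0 𝔄.P ∨ Module.FinitePresentation A0 𝔄.P := by
  rcases h with h | h
  · haveI : ∀ i, Module.Projective (Localization.Away (𝔄.a i)) (𝔄.P1 i) := fun i =>
      (𝔄.δ1_spec i).2.2.1 (h i)
    exact Or.inl (projective_of_cover 𝔄.a 𝔄.span 𝔄.π)
  · refine Or.inr ?_
    classical
    choose k hk using fun g : Set.range 𝔄.a => g.2
    haveI : ∀ g : Set.range 𝔄.a, IsLocalization.Away g.1 (Localization.Away (𝔄.a (k g))) :=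
      fun g => by rw [hk g]; infer_instance
    haveI : ∀ g : Set.range 𝔄.a, IsLocalizedModule (Submonoid.powers g.1) (𝔄.π (k g)) :=
      fun g => by
        rw [← congrArg Submonoid.powers (hk g)]
        infer_instance
    exact Module.FinitePresentation.of_localizationSpan' (Set.range 𝔄.a) 𝔄.span
      (Mₚ := fun g => 𝔄.P1 (k g)) (Rₚ := fun g => Localization.Away (𝔄.a (k g)))
      (fun g => 𝔄.π (k g)) fun g => (𝔄.δ1_spec (k g)).2.2.2 (h (k g))

theorem exists_coboundary (hα : ∀ i, 𝔗.π (α i) = 𝔄.a i)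
    (hP : Module.Projective A0 𝔄.P ∨ Module.FinitePresentation A0 𝔄.P)
    (z : ∀ i j, 𝔄.P →ₗ[A0] 𝔗.I (α i * α j))
    (hz : ∀ i j k,
      (𝔗.resI (Dvd.intro (α k) rfl : α i * α j ∣ α i * α j * α k)).comp (z i j) +
      (𝔗.resI (⟨α i, by ring⟩ : α j * α k ∣ α i * α j * α k)).comp (z j k) =
      (𝔗.resI (⟨α j, by ring⟩ : α i * α k ∣ α i * α j * α k)).comp (z i k)) :
    ∃ η : ∀ i, 𝔄.P →ₗ[A0] 𝔗.I (α i), ∀ i j,
      z i j = (𝔗.resI (dvd_mul_left (α j) (α i))).comp (η j) -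
        (𝔗.resI (dvd_mul_right (α i) (α j))).comp (η i) := by
  haveI l1 : ∀ i, IsLocalizedModule (Submonoid.powers (𝔄.a i)) (𝔗.resI (one_dvd (α i))) :=
    fun i => by rw [← hα i]; infer_instance
  haveI l2 : ∀ i j, IsLocalizedModule (Submonoid.powers (𝔄.a i * 𝔄.a j))
      (𝔗.resI (one_dvd (α i * α j))) :=
    fun i j => by rw [← hα i, ← hα j, ← map_mul]; infer_instance
  haveI l3 : ∀ i j k, IsLocalizedModule (Submonoid.powers (𝔄.a i * 𝔄.a j * 𝔄.a k))
      (𝔗.resI (one_dvd (α i * α j * α k))) :=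
    fun i j k => by rw [← hα i, ← hα j, ← hα k, ← map_mul, ← map_mul]; infer_instance
  rcases hP with hP | hP
  · let Z : Submodule A0 (∀ i j, 𝔗.I (α i * α j)) :=
      { carrier := {x | ∀ i j k,
          𝔗.resI (Dvd.intro (α k) rfl : α i * α j ∣ α i * α j * α k) (x i j) +
          𝔗.resI (⟨α i, by ring⟩ : α j * α k ∣ α i * α j * α k) (x j k) =
          𝔗.resI (⟨α j, by ring⟩ : α i * α k ∣ α i * α j * α k) (x i k)}
        add_mem' := fun {x y} hx hy i j k => by
          simp only [Pi.add_apply, map_add, ← hx i j k, ← hy i j k]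
          abel
        zero_mem' := fun i j k => by simp
        smul_mem' := fun c x hx i j k => by
          simp only [Pi.smul_apply, map_smul, ← smul_add, hx i j k] }
    let Φ : (∀ i, 𝔗.I (α i)) →ₗ[A0] Z :=
      LinearMap.codRestrict Z (LinearMap.pi fun i => LinearMap.pi fun j =>
        (𝔗.resI (dvd_mul_left (α j) (α i))).comp (LinearMap.proj j) -
          (𝔗.resI (dvd_mul_right (α i) (α j))).comp (LinearMap.proj i)) fun η i j k => by
        simp only [LinearMap.pi_apply, LinearMap.sub_apply, LinearMap.comp_apply,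
          LinearMap.proj_apply, map_sub, SqExt.resI_comp]
        abel
    have hΦ : Function.Surjective Φ := by
      rintro ⟨x, hx⟩
      obtain ⟨η, hη⟩ := cech_exact (a := 𝔄.a) (fun i => 𝔗.resI (one_dvd (α i)))
        (fun i j => 𝔗.resI (one_dvd (α i * α j))) (fun i j k => 𝔗.resI (one_dvd (α i * α j * α k)))
        𝔄.span (fun i j => 𝔗.resI (dvd_mul_right (α i) (α j)))
        (fun i j => 𝔗.resI (dvd_mul_left (α j) (α i)))
        (fun i j m => 𝔗.resI_comp _ _ m) (fun i j m => 𝔗.resI_comp _ _ m)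
        (fun i j k => 𝔗.resI (Dvd.intro (α k) rfl : α i * α j ∣ α i * α j * α k))
        (fun i j k => 𝔗.resI (⟨α j, by ring⟩ : α i * α k ∣ α i * α j * α k))
        (fun i j k => 𝔗.resI (⟨α i, by ring⟩ : α j * α k ∣ α i * α j * α k))
        (fun i j k m => 𝔗.resI_comp _ _ m) (fun i j k m => 𝔗.resI_comp _ _ m)
        (fun i j k m => 𝔗.resI_comp _ _ m) x hx
      exact ⟨η, Subtype.ext (funext fun i => funext fun j => (hη i j).symm)⟩
    obtain ⟨θ, hθ⟩ := Module.projective_lifting_property Φ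
      (LinearMap.codRestrict Z (LinearMap.pi fun i => LinearMap.pi fun j => z i j)
        fun p i j k => LinearMap.congr_fun (hz i j k) p) hΦ
    refine ⟨fun i => (LinearMap.proj i).comp θ, fun i j => LinearMap.ext fun p => ?_⟩
    exact (congrFun (congrFun (congrArg Subtype.val (LinearMap.congr_fun hθ p)) i) j).symm
  · let L : ∀ {M M' : Type u} [AddCommGroup M] [Module A0 M] [AddCommGroup M'] [Module A0 M'],
        (M →ₗ[A0] M') → ((𝔄.P →ₗ[A0] M) →ₗ[A0] (𝔄.P →ₗ[A0] M')) :=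
      fun {M M'} _ _ _ _ g => LinearMap.compRight A0 g
    haveI : ∀ i, IsLocalizedModule (Submonoid.powers (𝔄.a i)) (L (𝔗.resI (one_dvd (α i)))) :=
      fun i => isLocalizedModule_llcomp _ _
    haveI : ∀ i j, IsLocalizedModule (Submonoid.powers (𝔄.a i * 𝔄.a j))
        (L (𝔗.resI (one_dvd (α i * α j)))) := fun i j => isLocalizedModule_llcomp _ _
    haveI : ∀ i j k, IsLocalizedModule (Submonoid.powers (𝔄.a i * 𝔄.a j * 𝔄.a k))
        (L (𝔗.resI (one_dvd (α i * α j * α k)))) := fun i j k => isLocalizedModule_llcomp _ _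
    exact cech_exact (a := 𝔄.a) (fun i => L (𝔗.resI (one_dvd (α i))))
      (fun i j => L (𝔗.resI (one_dvd (α i * α j))))
      (fun i j k => L (𝔗.resI (one_dvd (α i * α j * α k)))) 𝔄.span
      (fun i j => L (𝔗.resI (dvd_mul_right (α i) (α j))))
      (fun i j => L (𝔗.resI (dvd_mul_left (α j) (α i))))
      (fun i j m => LinearMap.ext fun p => 𝔗.resI_comp _ _ (m p))
      (fun i j m => LinearMap.ext fun p => 𝔗.resI_comp _ _ (m p))
      (fun i j k => L (𝔗.resI (Dvd.intro (α k) rfl : α i * α j ∣ α i * α j * α k)))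
      (fun i j k => L (𝔗.resI (⟨α j, by ring⟩ : α i * α k ∣ α i * α j * α k)))
      (fun i j k => L (𝔗.resI (⟨α i, by ring⟩ : α j * α k ∣ α i * α j * α k)))
      (fun i j k m => LinearMap.ext fun p => 𝔗.resI_comp _ _ (m p))
      (fun i j k m => LinearMap.ext fun p => 𝔗.resI_comp _ _ (m p))
      (fun i j k m => LinearMap.ext fun p => 𝔗.resI_comp _ _ (m p)) z hz

theorem res_comp_res {w v x : A} (h : w ∣ v) (h' : v ∣ x) :
    (SqExt.res h').comp (SqExt.res h) = SqExt.res (h.trans h') :=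
  IsLocalization.ringHom_ext (Submonoid.powers w) (RingHom.ext fun y => by
    show SqExt.res h' (SqExt.res h (algebraMap A (SqExt.T w) y)) =
      SqExt.res (h.trans h') (algebraMap A (SqExt.T w) y)
    rw [SqExt.res_algebraMap, SqExt.res_algebraMap, SqExt.res_algebraMap])

theorem specMap_res_res {w v x : A} (h : w ∣ v) (h' : v ∣ x)
    (b : Spec (CommRingCat.of (SqExt.T w)) ⟶ X) :
    Spec.map (CommRingCat.ofHom (SqExt.res h')) ≫ Spec.map (CommRingCat.ofHom (SqExt.res h)) ≫ b =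
      Spec.map (CommRingCat.ofHom (SqExt.res (h.trans h'))) ≫ b := by
  rw [← Category.assoc, ← Spec.map_comp, ← CommRingCat.ofHom_comp, res_comp_res]

theorem dCls_congr (hα : ∀ i, 𝔗.π (α i) = 𝔄.a i) (i : 𝔄.ι) {w : A} (h : α i ∣ w)
    {b₁ b₂ b₁' b₂' : Spec (CommRingCat.of (SqExt.T w)) ⟶ X} (hb₁ : IsLift 𝔗 f a a0 w b₁)
    (hb₂ : IsLift 𝔗 f a a0 w b₂) (hb₁' : IsLift 𝔗 f a a0 w b₁') (hb₂' : IsLift 𝔗 f a a0 w b₂')
    (e₁ : b₁ = b₁') (e₂ : b₂ = b₂') : dCls hα i h hb₁ hb₂ = dCls hα i h hb₁' hb₂' := by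
  subst e₁ e₂; rfl

theorem range_specMap_away (w : A) :
    Set.range (Spec.map (CommRingCat.ofHom (algebraMap A (SqExt.T w)))) =
      (PrimeSpectrum.basicOpen w : Set (PrimeSpectrum A)) :=
  PrimeSpectrum.localization_away_comap_range (SqExt.T w) w

theorem specMap_p_comp (w : A) :
    Spec.map (CommRingCat.ofHom (𝔗.p w)) ≫ Spec.map (CommRingCat.ofHom (algebraMap A (SqExt.T w))) =
      Spec.map (CommRingCat.ofHom (algebraMap A0 (𝔗.R w))) ≫
        Spec.map (CommRingCat.ofHom 𝔗.π) := by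
  rw [← Spec.map_comp, ← Spec.map_comp, ← CommRingCat.ofHom_comp, ← CommRingCat.ofHom_comp]
  congr 2
  exact RingHom.ext fun x => 𝔗.p_algebraMap w x

theorem isPullback_away (w v : A) :
    IsPullback (Spec.map (CommRingCat.ofHom (SqExt.res (dvd_mul_left v w))))
      (Spec.map (CommRingCat.ofHom (SqExt.res (dvd_mul_right w v))))
      (Spec.map (CommRingCat.ofHom (algebraMap A (SqExt.T v))))
      (Spec.map (CommRingCat.ofHom (algebraMap A (SqExt.T w)))) := by
  have hcomp : ∀ {x y : A} (h : x ∣ y),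
      (SqExt.res h).comp (algebraMap A (SqExt.T x)) = algebraMap A (SqExt.T y) :=
    fun h => RingHom.ext (SqExt.res_algebraMap h)
  haveI : IsOpenImmersion (Spec.map (CommRingCat.ofHom (algebraMap A (SqExt.T w)))) :=
    IsOpenImmersion.of_isLocalization w
  haveI : IsOpenImmersion (Spec.map (CommRingCat.ofHom (algebraMap A (SqExt.T v)))) :=
    IsOpenImmersion.of_isLocalization v
  haveI : IsOpenImmersion (Spec.map (CommRingCat.ofHom (algebraMap A (SqExt.T (w * v))))) :=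
    IsOpenImmersion.of_isLocalization (w * v)
  have e : Spec.map (CommRingCat.ofHom (SqExt.res (dvd_mul_right w v))) ≫
      Spec.map (CommRingCat.ofHom (algebraMap A (SqExt.T w))) =
      Spec.map (CommRingCat.ofHom (algebraMap A (SqExt.T (w * v)))) := by
    rw [← Spec.map_comp, ← CommRingCat.ofHom_comp, hcomp]
  haveI : IsOpenImmersion (Spec.map (CommRingCat.ofHom (SqExt.res (dvd_mul_right w v)))) := by
    haveI : IsOpenImmersion (Spec.map (CommRingCat.ofHom (SqExt.res (dvd_mul_right w v))) ≫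
      Spec.map (CommRingCat.ofHom (algebraMap A (SqExt.T w)))) := by rw [e]; infer_instance
    exact IsOpenImmersion.of_comp _ (Spec.map (CommRingCat.ofHom (algebraMap A (SqExt.T w))))
  refine IsOpenImmersion.isPullback _ _ _ _ ?_ ?_
  · rw [e, ← Spec.map_comp, ← CommRingCat.ofHom_comp, hcomp]
  · refine TopologicalSpace.Opens.ext ?_
    show Spec.map (CommRingCat.ofHom (algebraMap A (SqExt.T w))) ⁻¹'
      Set.range (Spec.map (CommRingCat.ofHom (algebraMap A (SqExt.T v)))) =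
      Set.range (Spec.map (CommRingCat.ofHom (SqExt.res (dvd_mul_right w v))))
    refine ((Spec.map (CommRingCat.ofHom (algebraMap A (SqExt.T w)))).isOpenEmbedding.injective.image_injective) ?_
    rw [Set.image_preimage_eq_inter_range, ← Set.range_comp]
    conv_rhs => rw [show ⇑(Spec.map (CommRingCat.ofHom (algebraMap A (SqExt.T w)))) ∘
      ⇑(Spec.map (CommRingCat.ofHom (SqExt.res (dvd_mul_right w v)))) =
      ⇑(Spec.map (CommRingCat.ofHom (algebraMap A (SqExt.T (w * v))))) from by rw [← e]; rfl]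
    rw [range_specMap_away, range_specMap_away, range_specMap_away, PrimeSpectrum.basicOpen_mul]
    exact Set.inter_comm _ _

/-- Local lifts glue to a global lift when the charts are good. -/
theorem exists_lift (hcomm : a0 ≫ f = Spec.map (CommRingCat.ofHom 𝔗.π) ≫ a)
    (hα : ∀ i, 𝔗.π (α i) = 𝔄.a i) (hgood : GoodCharts 𝔄)
    (b : ∀ i, Spec (CommRingCat.of (SqExt.T (α i))) ⟶ X)
    (hb : ∀ i, IsLift 𝔗 f a a0 (α i) (b i)) :
    ∃ l : Spec (CommRingCat.of A) ⟶ X,
      Spec.map (CommRingCat.ofHom 𝔗.π) ≫ l = a0 ∧ l ≫ f = a := by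
  classical
  have r₁ : ∀ i j, IsLift 𝔗 f a a0 (α i * α j) _ := fun i j => (hb i).restrict (dvd_mul_right _ (α j))
  have r₂ : ∀ i j, IsLift 𝔗 f a a0 (α i * α j) _ := fun i j => (hb j).restrict (dvd_mul_left _ (α i))
  let z : ∀ i j, 𝔄.P →ₗ[A0] 𝔗.I (α i * α j) := fun i j =>
    dCls hα i (dvd_mul_right _ _) (r₁ i j) (r₂ i j)
  have hz : ∀ i j k,
      (𝔗.resI (Dvd.intro (α k) rfl : α i * α j ∣ α i * α j * α k)).comp (z i j) +
      (𝔗.resI (⟨α i, by ring⟩ : α j * α k ∣ α i * α j * α k)).comp (z j k) =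
      (𝔗.resI (⟨α j, by ring⟩ : α i * α k ∣ α i * α j * α k)).comp (z i k) := by
    intro i j k
    have d1 : α i * α j ∣ α i * α j * α k := Dvd.intro (α k) rfl
    have d2 : α j * α k ∣ α i * α j * α k := ⟨α i, by ring⟩
    have d3 : α i * α k ∣ α i * α j * α k := ⟨α j, by ring⟩
    have hi : α i ∣ α i * α j * α k := (dvd_mul_right _ _).trans d1
    have hj : α j ∣ α i * α j * α k := (dvd_mul_right _ _).trans d2
    have hk : α k ∣ α i * α j * α k := dvd_mul_left _ _
    rw [← dCls_res hα i (dvd_mul_right _ _) d1, ← dCls_res hα j (dvd_mul_right _ _) d2,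
      ← dCls_res hα i (dvd_mul_right _ _) d3,
      dCls_indep hα j i _ hi,
      dCls_congr hα i hi ((r₁ i j).restrict d1) ((r₂ i j).restrict d1) ((hb i).restrict hi)
        ((hb j).restrict hj) (specMap_res_res _ _ _) (specMap_res_res _ _ _),
      dCls_congr hα i hi ((r₁ j k).restrict d2) ((r₂ j k).restrict d2) ((hb j).restrict hj)
        ((hb k).restrict hk) (specMap_res_res _ _ _) (specMap_res_res _ _ _),
      dCls_congr hα i hi ((r₁ i k).restrict d3) ((r₂ i k).restrict d3) ((hb i).restrict hi)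
        ((hb k).restrict hk) (specMap_res_res _ _ _) (specMap_res_res _ _ _),
      ← dCls_add]
  obtain ⟨η, hη⟩ := exists_coboundary hα (projective_or_fp hgood) z hz
  choose b' hb' he using fun i => exists_dCls_eq hα i dvd_rfl (hb i) (- η i)
  have key : ∀ i j, Spec.map (CommRingCat.ofHom (SqExt.res (dvd_mul_left (α j) (α i)))) ≫ b' j =
      Spec.map (CommRingCat.ofHom (SqExt.res (dvd_mul_right (α i) (α j)))) ≫ b' i := by
    intro i j
    have hj1 := (hb' j).restrict (dvd_mul_left (α j) (α i))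
    have hi1 := (hb' i).restrict (dvd_mul_right (α i) (α j))
    refine (eq_of_dCls_eq_zero hα i (dvd_mul_right _ _) hi1 hj1 ?_).symm
    have h1 : dCls hα i (dvd_mul_right _ _) (r₁ i j) hi1 =
        (𝔗.resI (dvd_mul_right (α i) (α j))).comp (- η i) := by
      rw [← he i, ← dCls_res hα i dvd_rfl (dvd_mul_right (α i) (α j))]
    have h2 : dCls hα i (dvd_mul_right _ _) (r₂ i j) hj1 =
        (𝔗.resI (dvd_mul_left (α j) (α i))).comp (- η j) := by
      rw [dCls_indep hα i j _ ((dvd_refl (α j)).trans (dvd_mul_left (α j) (α i))), ← he j,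
        ← dCls_res hα j dvd_rfl (dvd_mul_left (α j) (α i))]
    rw [dCls_add hα i _ hi1 (r₁ i j) hj1, dCls_add hα i _ (r₁ i j) (r₂ i j) hj1,
      dCls_symm hα i _ (r₁ i j) hi1, h1, h2]
    change _ + (z i j + _) = 0
    rw [hη i j]
    simp only [LinearMap.comp_neg]
    abel
  have hspan : Ideal.span (Set.range α) = ⊤ := by
    have hker : ∀ x, 𝔗.π x = 0 → x ∈ (Ideal.span (Set.range α)).radical := fun x hx =>
      ⟨2, by rw [pow_two, 𝔗.sq x x hx hx]; exact zero_mem _⟩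
    have hmap : (Ideal.span (Set.range α)).map 𝔗.π = ⊤ := by
      rw [Ideal.map_span, ← Set.range_comp, show 𝔗.π ∘ α = 𝔄.a from funext hα, 𝔄.span]
    have h1 : (1 : A0) ∈ (Ideal.span (Set.range α)).map 𝔗.π := hmap ▸ Submodule.mem_top
    obtain ⟨x, hx, hx1⟩ := (Ideal.mem_map_iff_of_surjective 𝔗.π 𝔗.surj).1 h1
    refine Ideal.radical_eq_top.1 ((Ideal.eq_top_iff_one _).2 ?_)
    have hmem := hker (1 - x) (by rw [map_sub, map_one, hx1, sub_self])
    simpa using Ideal.add_mem _ hmem (Ideal.le_radical hx)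
  let 𝒰 := (Scheme.affineOpenCoverOfSpanRangeEqTop (R := CommRingCat.of A) α hspan).openCover
  have hglue : ∀ i j, pullback.fst (𝒰.f i) (𝒰.f j) ≫ b' i = pullback.snd (𝒰.f i) (𝒰.f j) ≫ b' j := by
    intro i j
    have hP : IsPullback _ _ (𝒰.f i) (𝒰.f j) := (isPullback_away (A := A) (α i) (α j)).flip
    have e := key i j
    rw [← cancel_epi hP.isoPullback.hom]
    erw [IsPullback.isoPullback_hom_fst_assoc, IsPullback.isoPullback_hom_snd_assoc]
    exact e.symm
  refine ⟨𝒰.glueMorphisms b' hglue, ?_, ?_⟩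
  · let 𝒱 := (Scheme.affineOpenCoverOfSpanRangeEqTop (R := CommRingCat.of A0)
      (fun i => 𝔗.π (α i)) (by rw [show (fun i => 𝔗.π (α i)) = 𝔄.a from funext hα]; exact 𝔄.span)).openCover
    refine 𝒱.hom_ext _ _ fun i => ?_
    show Spec.map (CommRingCat.ofHom (algebraMap A0 (𝔗.R (α i)))) ≫
      Spec.map (CommRingCat.ofHom 𝔗.π) ≫ 𝒰.glueMorphisms b' hglue = a0R a0 (𝔗.R (α i))
    rw [← Category.assoc, ← specMap_p_comp, Category.assoc]
    erw [Scheme.Cover.ι_glueMorphisms 𝒰 b' hglue i]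
    exact (hb' i).1
  · refine 𝒰.hom_ext _ _ fun i => ?_
    rw [Scheme.Cover.ι_glueMorphisms_assoc]
    exact (hb' i).2

end Groth.L20.SmoothLocal
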