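import Groth.Agent.L20.SmoothLocal.Read
import Mathlib.Algebra.TrivSqZeroExt.Basic
import Mathlib.RingTheory.Kaehler.Basic
import Mathlib.RingTheory.Extension.Cotangent.Basic
import Mathlib.RingTheory.Smooth.Basic
import Mathlib.RingTheory.RingHom.FinitePresentation

/-!
# Points with values in trivial square-zero extensions and derivations
-/

set_option autoImplicit false
set_option backward.isDefEq.respectTransparency.types false
set_option linter.style.haveILetI false

universe u v

open CategoryTheory CategoryTheory.Limits AlgebraicGeometry Opposite TopologicalSpace TensorProduct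

noncomputable section

namespace Groth.L20.SmoothLocal

section Triv

variable (R : Type u) [CommRing R] (M : Type u) [AddCommGroup M] [Module R M]

/-- The opposite action of a commutative ring on a module. -/
@[reducible] def opModule : Module Rᵐᵒᵖ M :=
  Module.compHom M ((RingHom.id R).fromOpposite fun x y => mul_comm x y)

/-- The trivial square-zero extension of a commutative ring by a module. -/
def Triv : Type u := TrivSqZeroExt R M

instance : CommRing (Triv R M) :=
  letI := opModule R M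
  haveI : IsCentralScalar R M := ⟨fun _ _ => rfl⟩
  inferInstanceAs (CommRing (TrivSqZeroExt R M))

variable {R M}

/-- Pairs as elements of the trivial extension. -/
def Triv.mk (r : R) (m : M) : Triv R M := (r, m)

theorem Triv.ext {x y : Triv R M} (h₁ : x.1 = y.1) (h₂ : x.2 = y.2) : x = y := Prod.ext h₁ h₂

theorem Triv.mul_fst (x y : Triv R M) : (x * y).1 = x.1 * y.1 := rfl

theorem Triv.mul_snd (x y : Triv R M) : (x * y).2 = x.1 • y.2 + y.1 • x.2 := rfl

theorem Triv.add_fst (x y : Triv R M) : (x + y).1 = x.1 + y.1 := rfl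

theorem Triv.add_snd (x y : Triv R M) : (x + y).2 = x.2 + y.2 := rfl

theorem Triv.one_fst : (1 : Triv R M).1 = 1 := rfl

theorem Triv.one_snd : (1 : Triv R M).2 = 0 := rfl

theorem Triv.zero_fst : (0 : Triv R M).1 = 0 := rfl

theorem Triv.zero_snd : (0 : Triv R M).2 = 0 := rfl

variable (R M)

/-- The first projection. -/
def Triv.fst : Triv R M →+* R where
  toFun x := x.1
  map_one' := rfl
  map_mul' _ _ := rfl
  map_zero' := rfl
  map_add' _ _ := rfl

/-- The second projection. -/
def Triv.snd : Triv R M →+ M where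
  toFun x := x.2
  map_zero' := rfl
  map_add' _ _ := rfl

variable {R M}

theorem Triv.fst_surjective : Function.Surjective (Triv.fst R M) := fun r => ⟨(r, 0), rfl⟩

theorem Triv.isNilpotent_of_mem_ker (x : Triv R M) (hx : x ∈ RingHom.ker (Triv.fst R M)) :
    IsNilpotent x :=
  ⟨2, by
    have h : x.1 = 0 := hx
    rw [pow_two]
    exact Triv.ext (by rw [Triv.mul_fst, h, mul_zero, Triv.zero_fst])
      (by rw [Triv.mul_snd, h, zero_smul, zero_add, Triv.zero_snd])⟩

/-- The ring map into the trivial extension given by a ring map and a derivation. -/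
def Triv.lift {S : Type u} [CommRing S] (χ : S →+* R) (δ : S →+ M)
    (h : ∀ x y, δ (x * y) = χ x • δ y + χ y • δ x) : S →+* Triv R M where
  toFun s := Triv.mk (χ s) (δ s)
  map_one' := by
    have h1 := h 1 1
    simp only [mul_one, map_one, one_smul] at h1
    exact Triv.ext (map_one χ) (show δ 1 = (0 : M) by simpa using h1.symm)
  map_mul' x y := Triv.ext (map_mul χ x y) (h x y)
  map_zero' := Triv.ext (map_zero χ) (map_zero δ)
  map_add' x y := Triv.ext (map_add χ x y) (map_add δ x y)

variable (R M) in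
/-- The trivial section. -/
def Triv.inl : R →+* Triv R M := Triv.lift (RingHom.id R) 0 (by simp)

/-- Functoriality of the trivial extension. -/
def Triv.map {R' : Type u} [CommRing R'] {M' : Type u} [AddCommGroup M'] [Module R' M']
    (g : R →+* R') (φ : M →+ M') (h : ∀ (r : R) (m : M), φ (r • m) = g r • φ m) :
    Triv R M →+* Triv R' M' :=
  Triv.lift (g.comp (Triv.fst R M)) (φ.comp (Triv.snd R M)) fun x y => by
    show φ (x * y).2 = g x.1 • φ y.2 + g y.1 • φ x.2
    rw [Triv.mul_snd, map_add, h, h]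

end Triv

/-- An affine chart of a morphism. -/
structure Chart {X Y : Scheme.{u}} (f : X ⟶ Y) where
  /-- The affine open of the source. -/
  U : X.Opens
  /-- The affine open of the target. -/
  V : Y.Opens
  hU : IsAffineOpen U
  hV : IsAffineOpen V
  e : U ≤ f ⁻¹ᵁ V

variable {X Y : Scheme.{u}} (f : X ⟶ Y) {A0 : Type u} [CommRing A0]
  (a0 : Spec (CommRingCat.of A0) ⟶ X)

section Base

variable (R : Type u) [CommRing R] [Algebra A0 R]

/-- The restriction of `a0` to an `A0`-algebra. -/
def a0R : Spec (CommRingCat.of R) ⟶ X := Spec.map (CommRingCat.ofHom (algebraMap A0 R)) ≫ a0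

theorem specMap_a0R {R' : Type u} [CommRing R'] [Algebra A0 R'] (g : R →ₐ[A0] R') :
    Spec.map (CommRingCat.ofHom g.toRingHom) ≫ a0R a0 R = a0R a0 R' := by
  rw [a0R, a0R, ← Category.assoc, ← Spec.map_comp, ← CommRingCat.ofHom_comp]
  congr 3
  exact g.comp_algebraMap

variable {f}

/-- The chart contains the image of `Spec R`. -/
def Small (c : Chart f) : Prop := ⊤ ≤ a0R a0 R ⁻¹ᵁ c.U

variable {a0 R}

theorem Small.map {c : Chart f} (h : Small a0 R c) {R' : Type u} [CommRing R'] [Algebra A0 R']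
    (g : R →ₐ[A0] R') : Small a0 R' c := by
  rw [Small, ← specMap_a0R a0 R g]
  exact le_preimage_specMap _ h

/-- The ring map of a chart. -/
def chi {c : Chart f} (h : Small a0 R c) : Γ(X, c.U) →+* R := readHom (a0R a0 R) c.U h

theorem chi_map {c : Chart f} (h : Small a0 R c) {R' : Type u} [CommRing R'] [Algebra A0 R']
    (g : R →ₐ[A0] R') : chi (h.map g) = g.toRingHom.comp (chi h) := by
  have h2 : ⊤ ≤ (Spec.map (CommRingCat.ofHom g.toRingHom) ≫ a0R a0 R) ⁻¹ᵁ c.U :=
    le_preimage_specMap g.toRingHom h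
  have e1 : readHom (a0R a0 R') c.U (h.map g) =
      readHom (Spec.map (CommRingCat.ofHom g.toRingHom) ≫ a0R a0 R) c.U h2 :=
    readHom_congr (specMap_a0R a0 R g).symm c.U (h.map g) h2
  have e2 := readHom_specMap g.toRingHom (a0R a0 R) c.U h
  exact e1.trans e2

end Base

section Der

variable {f} {a0} {R : Type u} [CommRing R] [Algebra A0 R] {M : Type u} [AddCommGroup M] [Module R M]

/-- Derivations over a chart with values in a module over `R`. -/
structure IsDer {c : Chart f} (h : Small a0 R c) (δ : Γ(X, c.U) →+ M) : Prop where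
  leibniz : ∀ x y, δ (x * y) = chi h x • δ y + chi h y • δ x
  base : ∀ s, δ ((f.appLE c.V c.U c.e).hom s) = 0

theorem IsDer.map {c : Chart f} {h : Small a0 R c} {δ : Γ(X, c.U) →+ M} (hδ : IsDer h δ)
    {R' : Type u} [CommRing R'] [Algebra A0 R'] {M' : Type u} [AddCommGroup M'] [Module R' M']
    (g : R →ₐ[A0] R') (φ : M →+ M') (hφ : ∀ (r : R) (m : M), φ (r • m) = g r • φ m) :
    IsDer (h.map g) (φ.comp δ) :=
  ⟨fun x y => by
      show φ (δ (x * y)) = chi (h.map g) x • φ (δ y) + chi (h.map g) y • φ (δ x)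
      rw [chi_map h g, hδ.leibniz x y, map_add, hφ, hφ]
      rfl,
    fun s => by
      show φ (δ ((f.appLE c.V c.U c.e).hom s)) = 0
      rw [hδ.base s, map_zero]⟩

end Der

section Pt

variable (R : Type u) [CommRing R] [Algebra A0 R] (M : Type u) [AddCommGroup M] [Module R M]

/-- Lifts of `a0` to the trivial extension of `R` by `M`. -/
structure Pt where
  /-- The morphism. -/
  hom : Spec (CommRingCat.of (Triv R M)) ⟶ X
  fst_hom : Spec.map (CommRingCat.ofHom (Triv.fst R M)) ≫ hom = a0R a0 R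
  hom_comp : hom ≫ f = Spec.map (CommRingCat.ofHom (Triv.inl R M)) ≫ a0R a0 R ≫ f

variable {f a0 R M}

theorem Pt.ext' {q q' : Pt f a0 R M} (h : q.hom = q'.hom) : q = q' := by
  cases q; cases q'; subst h; rfl

theorem Pt.le_preimage (q : Pt f a0 R M) {U : X.Opens} (h : ⊤ ≤ a0R a0 R ⁻¹ᵁ U) :
    ⊤ ≤ q.hom ⁻¹ᵁ U :=
  le_preimage_of_nil _ Triv.fst_surjective Triv.isNilpotent_of_mem_ker _ (by rw [q.fst_hom]; exact h)

/-- The derivation of a point on a chart. -/
def Pt.der (q : Pt f a0 R M) {c : Chart f} (h : Small a0 R c) : Γ(X, c.U) →+ M :=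
  (Triv.snd R M).comp (readHom q.hom c.U (q.le_preimage h)).toAddMonoidHom

theorem Pt.fst_readHom (q : Pt f a0 R M) {c : Chart f} (h : Small a0 R c) :
    (Triv.fst R M).comp (readHom q.hom c.U (q.le_preimage h)) = chi h := by
  rw [← readHom_specMap]
  exact readHom_congr q.fst_hom _ _ h

theorem Pt.readHom_fst_apply (q : Pt f a0 R M) {c : Chart f} (h : Small a0 R c) (x : Γ(X, c.U)) :
    (readHom q.hom c.U (q.le_preimage h) x).1 = chi h x :=
  RingHom.congr_fun (q.fst_readHom h) x

theorem Pt.isDer_der (q : Pt f a0 R M) {c : Chart f} (h : Small a0 R c) : IsDer h (q.der h) := by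
  refine ⟨fun x y => ?_, fun s => ?_⟩
  · show (readHom q.hom c.U (q.le_preimage h) (x * y)).2 = _
    rw [map_mul, Triv.mul_snd, q.readHom_fst_apply h, q.readHom_fst_apply h]
    rfl
  · have e1 := readHom_comp q.hom f c.e (q.le_preimage h)
    have e2 := readHom_congr q.hom_comp c.V (fun _ _ => c.e (q.le_preimage h trivial))
      (le_preimage_specMap (Triv.inl R M) (fun _ _ => c.e (h trivial)))
    rw [e2, readHom_specMap (Triv.inl R M) (a0R a0 R ≫ f) c.V (fun _ _ => c.e (h trivial))] at e1
    show (readHom q.hom c.U (q.le_preimage h) ((f.appLE c.V c.U c.e).hom s)).2 = 0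
    rw [← RingHom.comp_apply, ← e1]
    rfl

theorem Pt.ext_der {q q' : Pt f a0 R M} {c : Chart f} (h : Small a0 R c)
    (e : q.der h = q'.der h) : q = q' := by
  refine Pt.ext' (ext_readHom c.hU (q.le_preimage h) (q'.le_preimage h) (RingHom.ext fun x => ?_))
  refine Triv.ext ?_ (DFunLike.congr_fun e x)
  rw [q.readHom_fst_apply h, q'.readHom_fst_apply h]

/-- The point of a derivation on a chart. -/
def Pt.ofDer {c : Chart f} (h : Small a0 R c) {δ : Γ(X, c.U) →+ M} (hδ : IsDer h δ) :
    Pt f a0 R M where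
  hom := ofReadHom c.hU (Triv.lift (chi h) δ hδ.leibniz)
  fst_hom := by
    refine ext_readHom c.hU (le_preimage_specMap _ (le_preimage_ofReadHom _ _)) h ?_
    rw [readHom_specMap _ _ _ (le_preimage_ofReadHom _ _), readHom_ofReadHom]
    rfl
  hom_comp := by
    refine ext_readHom c.hV (fun _ _ => c.e (le_preimage_ofReadHom c.hU _ trivial))
      (le_preimage_specMap _ (fun _ _ => c.e (h trivial))) ?_
    rw [readHom_comp _ f c.e (le_preimage_ofReadHom c.hU _), readHom_ofReadHom,
      readHom_specMap (Triv.inl R M) (a0R a0 R ≫ f) c.V (fun _ _ => c.e (h trivial)),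
      readHom_comp (a0R a0 R) f c.e h]
    refine RingHom.ext fun s => Triv.ext ?_ ?_
    · rfl
    · exact hδ.base s

theorem Pt.der_ofDer {c : Chart f} (h : Small a0 R c) {δ : Γ(X, c.U) →+ M} (hδ : IsDer h δ) :
    (Pt.ofDer h hδ).der h = δ := by
  refine AddMonoidHom.ext fun x => ?_
  show (readHom (ofReadHom c.hU (Triv.lift (chi h) δ hδ.leibniz)) c.U _ x).2 = δ x
  rw [readHom_ofReadHom]
  rfl

/-- Functoriality of points. -/
def Pt.map (q : Pt f a0 R M) {R' : Type u} [CommRing R'] [Algebra A0 R'] {M' : Type u}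
    [AddCommGroup M'] [Module R' M'] (g : R →ₐ[A0] R') (φ : M →+ M')
    (hφ : ∀ (r : R) (m : M), φ (r • m) = g r • φ m) : Pt f a0 R' M' where
  hom := Spec.map (CommRingCat.ofHom (Triv.map g.toRingHom φ hφ)) ≫ q.hom
  fst_hom := by
    rw [← Category.assoc, ← Spec.map_comp, ← CommRingCat.ofHom_comp,
      show (Triv.fst R' M').comp (Triv.map g.toRingHom φ hφ) = g.toRingHom.comp (Triv.fst R M) from
        rfl, CommRingCat.ofHom_comp, Spec.map_comp, Category.assoc, q.fst_hom, specMap_a0R]
  hom_comp := by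
    rw [Category.assoc, q.hom_comp, ← specMap_a0R a0 R g]
    simp only [← Category.assoc, ← Spec.map_comp, ← CommRingCat.ofHom_comp]
    congr 4
    refine RingHom.ext fun r => Triv.ext rfl ?_
    exact map_zero φ

theorem Pt.der_map (q : Pt f a0 R M) {R' : Type u} [CommRing R'] [Algebra A0 R'] {M' : Type u}
    [AddCommGroup M'] [Module R' M'] (g : R →ₐ[A0] R') (φ : M →+ M')
    (hφ : ∀ (r : R) (m : M), φ (r • m) = g r • φ m) {c : Chart f} (h : Small a0 R c) :
    (q.map g φ hφ).der (h.map g) = φ.comp (q.der h) := by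
  refine AddMonoidHom.ext fun x => ?_
  show (readHom (Spec.map (CommRingCat.ofHom (Triv.map g.toRingHom φ hφ)) ≫ q.hom) c.U _ x).2 = _
  rw [readHom_specMap _ _ _ (q.le_preimage h)]
  rfl

end Pt

section Universal

variable {f a0}

/-- A universal derivation on a chart, with the finiteness inherited from the chart. -/
theorem exists_universal_der {R : Type u} [CommRing R] [Algebra A0 R] {c : Chart f}
    (h : Small a0 R c) :
    ∃ (P : Type u) (_ : AddCommGroup P) (_ : Module R P) (δ : Γ(X, c.U) →+ P),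
      IsDer h δ ∧
      (∀ (M : Type u) [AddCommGroup M] [Module R M] (δ' : Γ(X, c.U) →+ M), IsDer h δ' →
        ∃! θ : P →ₗ[R] M, ∀ x, θ (δ x) = δ' x) ∧
      ((letI := (f.appLE c.V c.U c.e).hom.toAlgebra
        Algebra.FormallySmooth Γ(Y, c.V) Γ(X, c.U)) → Module.Projective R P) ∧
      ((f.appLE c.V c.U c.e).hom.FinitePresentation → Module.FinitePresentation R P) := by
  letI algO : Algebra Γ(Y, c.V) Γ(X, c.U) := (f.appLE c.V c.U c.e).hom.toAlgebra
  letI algR : Algebra Γ(X, c.U) R := (chi h).toAlgebra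
  refine ⟨R ⊗[Γ(X, c.U)] Ω[Γ(X, c.U)⁄Γ(Y, c.V)], inferInstance, inferInstance,
    (((TensorProduct.mk Γ(X, c.U) R Ω[Γ(X, c.U)⁄Γ(Y, c.V)] 1).toAddMonoidHom).comp
      (KaehlerDifferential.D Γ(Y, c.V) Γ(X, c.U)).toLinearMap.toAddMonoidHom), ⟨?_, ?_⟩, ?_, ?_, ?_⟩
  · intro x y
    show (1 : R) ⊗ₜ[Γ(X, c.U)] KaehlerDifferential.D Γ(Y, c.V) Γ(X, c.U) (x * y) = _
    rw [Derivation.leibniz, TensorProduct.tmul_add, TensorProduct.tmul_smul,
      TensorProduct.tmul_smul, ← algebraMap_smul R x, ← algebraMap_smul R y]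
    rfl
  · intro s
    show (1 : R) ⊗ₜ[Γ(X, c.U)] KaehlerDifferential.D Γ(Y, c.V) Γ(X, c.U)
      (algebraMap Γ(Y, c.V) Γ(X, c.U) s) = 0
    rw [Derivation.map_algebraMap, TensorProduct.tmul_zero]
  · intro M _ _ δ' hδ'
    letI : Module Γ(X, c.U) M := Module.compHom M (chi h)
    letI : Module Γ(Y, c.V) M := Module.compHom M ((chi h).comp (f.appLE c.V c.U c.e).hom)
    haveI : IsScalarTower Γ(X, c.U) R M :=
      ⟨fun x r m => show (chi h x * r) • m = chi h x • r • m from mul_smul _ _ _⟩
    haveI : IsScalarTower Γ(Y, c.V) Γ(X, c.U) M := ⟨fun s x m => by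
      show chi h ((f.appLE c.V c.U c.e).hom s * x) • m =
        chi h ((f.appLE c.V c.U c.e).hom s) • chi h x • m
      rw [map_mul, mul_smul]⟩
    let L : Γ(X, c.U) →ₗ[Γ(Y, c.V)] M :=
      { toFun := δ'
        map_add' := map_add δ'
        map_smul' := fun s x => by
          show δ' ((f.appLE c.V c.U c.e).hom s * x) = chi h ((f.appLE c.V c.U c.e).hom s) • δ' x
          rw [hδ'.leibniz, hδ'.base, smul_zero, add_zero] }
    let D : Derivation Γ(Y, c.V) Γ(X, c.U) M := Derivation.mk' L fun x y => hδ'.leibniz x y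
    let θ : R ⊗[Γ(X, c.U)] Ω[Γ(X, c.U)⁄Γ(Y, c.V)] →ₗ[R] M :=
      LinearMap.liftBaseChange R D.liftKaehlerDifferential
    have hθ : ∀ x, θ (1 ⊗ₜ KaehlerDifferential.D Γ(Y, c.V) Γ(X, c.U) x) = δ' x := fun x => by
      simp only [θ, LinearMap.liftBaseChange_tmul, one_smul,
        Derivation.liftKaehlerDifferential_comp_D]
      rfl
    refine ⟨θ, hθ, fun θ' hθ' => ?_⟩
    refine TensorProduct.AlgebraTensorModule.ext fun r w => ?_
    rw [← mul_one r, ← smul_eq_mul, ← TensorProduct.smul_tmul', map_smul, map_smul]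
    congr 1
    have key : (θ'.restrictScalars Γ(X, c.U)).comp (TensorProduct.mk Γ(X, c.U) R _ 1) =
        (θ.restrictScalars Γ(X, c.U)).comp (TensorProduct.mk Γ(X, c.U) R _ 1) :=
      LinearMap.ext_on_range (KaehlerDifferential.span_range_derivation Γ(Y, c.V) Γ(X, c.U))
        fun x => (hθ' x).trans (hθ x).symm
    exact LinearMap.congr_fun key w
  · intro hs
    haveI := hs
    infer_instance
  · intro hf
    haveI : Algebra.FinitePresentation Γ(Y, c.V) Γ(X, c.U) := hf
    infer_instance

end Universal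

end Groth.L20.SmoothLocal
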