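import Mathlib.AlgebraicGeometry.AffineScheme
import Mathlib.RingTheory.Spectrum.Prime.Topology

/-!
# Morphisms out of an affine scheme read on an open of the target
-/

set_option autoImplicit false
set_option backward.isDefEq.respectTransparency.types false

universe u

open CategoryTheory CategoryTheory.Limits AlgebraicGeometry Opposite TopologicalSpace

noncomputable section

namespace Groth.L20.SmoothLocal

variable {X Y : Scheme.{u}} {R R' : Type u} [CommRing R] [CommRing R']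

/-- The ring map `Γ(X, U) → R` of a morphism `Spec R ⟶ X` with image in `U`. -/
def readHom (q : Spec (CommRingCat.of R) ⟶ X) (U : X.Opens) (h : ⊤ ≤ q ⁻¹ᵁ U) : Γ(X, U) →+* R :=
  (q.appLE U ⊤ h ≫ (Scheme.ΓSpecIso (CommRingCat.of R)).hom).hom

/-- The morphism given by a ring map out of the sections over an affine open. -/
def ofReadHom {U : X.Opens} (hU : IsAffineOpen U) (φ : Γ(X, U) →+* R) :
    Spec (CommRingCat.of R) ⟶ X :=
  Spec.map (CommRingCat.ofHom φ) ≫ hU.fromSpec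

theorem le_preimage_specMap (g : R →+* R') {q : Spec (CommRingCat.of R) ⟶ X} {U : X.Opens}
    (h : ⊤ ≤ q ⁻¹ᵁ U) : ⊤ ≤ (Spec.map (CommRingCat.ofHom g) ≫ q) ⁻¹ᵁ U :=
  fun x _ => h (x := Spec.map (CommRingCat.ofHom g) x) trivial

theorem le_preimage_of_nil (g : R →+* R') (hg : Function.Surjective g)
    (hnil : ∀ x ∈ RingHom.ker g, IsNilpotent x) (q : Spec (CommRingCat.of R) ⟶ X) {U : X.Opens}
    (h : ⊤ ≤ (Spec.map (CommRingCat.ofHom g) ≫ q) ⁻¹ᵁ U) : ⊤ ≤ q ⁻¹ᵁ U := by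
  intro (p : PrimeSpectrum R) _
  have hp : p ∈ PrimeSpectrum.zeroLocus (RingHom.ker g : Set R) := by
    rw [PrimeSpectrum.mem_zeroLocus]
    intro x hx
    obtain ⟨n, hn⟩ := hnil x hx
    exact p.2.mem_of_pow_mem n (hn ▸ zero_mem _)
  rw [← range_comap_of_surjective _ g hg] at hp
  obtain ⟨p', rfl⟩ := hp
  exact h (x := p') trivial

theorem readHom_congr {q q' : Spec (CommRingCat.of R) ⟶ X} (e : q = q') (U : X.Opens)
    (h : ⊤ ≤ q ⁻¹ᵁ U) (h' : ⊤ ≤ q' ⁻¹ᵁ U) : readHom q U h = readHom q' U h' := by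
  subst e; rfl

theorem readHom_specMap (g : R →+* R') (q : Spec (CommRingCat.of R) ⟶ X) (U : X.Opens)
    (h : ⊤ ≤ q ⁻¹ᵁ U) :
    readHom (Spec.map (CommRingCat.ofHom g) ≫ q) U (le_preimage_specMap g h) =
      g.comp (readHom q U h) := by
  have key : (Spec.map (CommRingCat.ofHom g) ≫ q).appLE U ⊤ (le_preimage_specMap g h) ≫
      (Scheme.ΓSpecIso (CommRingCat.of R')).hom =
      (q.appLE U ⊤ h ≫ (Scheme.ΓSpecIso (CommRingCat.of R)).hom) ≫ CommRingCat.ofHom g := by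
    rw [← Scheme.Hom.appLE_comp_appLE (Spec.map (CommRingCat.ofHom g)) q U ⊤ ⊤ h
      (fun _ _ => trivial)]
    rw [Category.assoc, Category.assoc, ← Scheme.ΓSpecIso_naturality]
    simp [Scheme.Hom.appLE, Scheme.Hom.appTop]
  exact congrArg CommRingCat.Hom.hom key

theorem readHom_comp (q : Spec (CommRingCat.of R) ⟶ X) (f : X ⟶ Y) {V : Y.Opens} {U : X.Opens}
    (e : U ≤ f ⁻¹ᵁ V) (h : ⊤ ≤ q ⁻¹ᵁ U) :
    readHom (q ≫ f) V (fun _ _ => e (h trivial)) = (readHom q U h).comp (f.appLE V U e).hom := by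
  have key : (q ≫ f).appLE V ⊤ (fun _ _ => e (h trivial)) ≫ (Scheme.ΓSpecIso (CommRingCat.of R)).hom =
      f.appLE V U e ≫ (q.appLE U ⊤ h ≫ (Scheme.ΓSpecIso (CommRingCat.of R)).hom) := by
    rw [← Category.assoc, Scheme.Hom.appLE_comp_appLE]
  exact congrArg CommRingCat.Hom.hom key

theorem ofReadHom_readHom {U : X.Opens} (hU : IsAffineOpen U) (q : Spec (CommRingCat.of R) ⟶ X)
    (h : ⊤ ≤ q ⁻¹ᵁ U) : ofReadHom hU (readHom q U h) = q := by
  show Spec.map (q.appLE U ⊤ h ≫ (Scheme.ΓSpecIso (CommRingCat.of R)).hom) ≫ hU.fromSpec = q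
  rw [Spec.map_comp, Category.assoc, hU.SpecMap_appLE_fromSpec q (isAffineOpen_top _) h,
    IsAffineOpen.fromSpec_top, Scheme.isoSpec_Spec_inv, ← Category.assoc, ← Spec.map_comp]
  simp

theorem ext_readHom {U : X.Opens} (hU : IsAffineOpen U) {q q' : Spec (CommRingCat.of R) ⟶ X}
    (h : ⊤ ≤ q ⁻¹ᵁ U) (h' : ⊤ ≤ q' ⁻¹ᵁ U) (e : readHom q U h = readHom q' U h') : q = q' := by
  rw [← ofReadHom_readHom hU q h, ← ofReadHom_readHom hU q' h', e]

theorem le_preimage_ofReadHom {U : X.Opens} (hU : IsAffineOpen U) (φ : Γ(X, U) →+* R) :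
    ⊤ ≤ ofReadHom hU φ ⁻¹ᵁ U := by
  intro x _
  have : hU.fromSpec (Spec.map (CommRingCat.ofHom φ) x) ∈ Set.range hU.fromSpec := ⟨_, rfl⟩
  rw [hU.range_fromSpec] at this
  exact this

theorem readHom_ofReadHom {U : X.Opens} (hU : IsAffineOpen U) (φ : Γ(X, U) →+* R) :
    readHom (ofReadHom hU φ) U (le_preimage_ofReadHom hU φ) = φ := by
  have h := ofReadHom_readHom hU (ofReadHom hU φ) (le_preimage_ofReadHom hU φ)
  have h2 := Spec.map_injective ((cancel_mono hU.fromSpec).1 h)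
  exact congrArg CommRingCat.Hom.hom h2

attribute [irreducible] readHom

end Groth.L20.SmoothLocal
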