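import Groth.Agent.L20.SmoothLocal.Univ

/-!
# Localisations of a square-zero extension and differences of lifts
-/

set_option autoImplicit false
set_option backward.isDefEq.respectTransparency.types false
set_option linter.style.haveILetI false
set_option linter.unusedVariables false

universe u

open CategoryTheory CategoryTheory.Limits AlgebraicGeometry Opposite TopologicalSpace

noncomputable section

namespace Groth.L20.SmoothLocal

/-- A surjection of rings with square-zero kernel. -/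
structure SqExt (A A0 : Type u) [CommRing A] [CommRing A0] where
  π : A →+* A0
  surj : Function.Surjective π
  sq : ∀ x y, π x = 0 → π y = 0 → x * y = 0

variable {A A0 : Type u} [CommRing A] [CommRing A0] (𝔗 : SqExt A A0)

namespace SqExt

/-- The localisation of the thickening. -/
abbrev T (w : A) : Type u := Localization.Away w

/-- The localisation of the base. -/
abbrev R (w : A) : Type u := Localization.Away (𝔗.π w)

/-- The localised surjection. -/
def p (w : A) : T w →+* 𝔗.R w := IsLocalization.Away.map (T w) (𝔗.R w) 𝔗.π w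

theorem p_algebraMap (w : A) (x : A) :
    𝔗.p w (algebraMap A (T w) x) = algebraMap A0 (𝔗.R w) (𝔗.π x) :=
  IsLocalization.map_eq (M := Submonoid.powers w) (T := Submonoid.powers (𝔗.π w))
    (by rintro _ ⟨n, rfl⟩; exact ⟨n, (map_pow 𝔗.π w n).symm⟩) x

theorem p_surjective (w : A) : Function.Surjective (𝔗.p w) := by
  intro y
  obtain ⟨⟨y0, ⟨_, n, rfl⟩⟩, hy⟩ := IsLocalization.surj (Submonoid.powers (𝔗.π w)) y
  obtain ⟨x, rfl⟩ := 𝔗.surj y0
  refine ⟨IsLocalization.mk' (T w) x (⟨w ^ n, n, rfl⟩ : Submonoid.powers w), ?_⟩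
  have hu : IsUnit (algebraMap A0 (𝔗.R w) (𝔗.π w ^ n)) :=
    IsLocalization.map_units (𝔗.R w) (⟨𝔗.π w ^ n, n, rfl⟩ : Submonoid.powers (𝔗.π w))
  refine hu.mul_left_injective ?_
  show _ * algebraMap A0 (𝔗.R w) (𝔗.π w ^ n) = y * _
  rw [hy]
  rw [← map_pow 𝔗.π, ← p_algebraMap, ← p_algebraMap, ← map_mul, IsLocalization.mk'_spec]

theorem p_sq (w : A) (x y : T w) (hx : 𝔗.p w x = 0) (hy : 𝔗.p w y = 0) : x * y = 0 := by
  have key : ∀ z : T w, 𝔗.p w z = 0 → ∃ (z0 : A) (n : ℕ), 𝔗.π z0 = 0 ∧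
      z * algebraMap A (T w) (w ^ n) = algebraMap A (T w) z0 := by
    intro z hz
    obtain ⟨⟨z1, ⟨_, n, rfl⟩⟩, h⟩ := IsLocalization.surj (Submonoid.powers w) z
    have h0 : algebraMap A0 (𝔗.R w) (𝔗.π z1) = algebraMap A0 (𝔗.R w) 0 := by
      rw [← p_algebraMap, map_zero, ← h, map_mul, hz, zero_mul]
    obtain ⟨⟨_, m, rfl⟩, hm⟩ :=
      (IsLocalization.eq_iff_exists (Submonoid.powers (𝔗.π w)) (𝔗.R w)).1 h0
    refine ⟨w ^ m * z1, n + m, by simpa using hm, ?_⟩
    simp only at h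
    rw [pow_add, map_mul, map_mul, ← mul_assoc, h]
    ring
  obtain ⟨x0, n, hx0, hx1⟩ := key x hx
  obtain ⟨y0, m, hy0, hy1⟩ := key y hy
  have hu : IsUnit (algebraMap A (T w) (w ^ n) * algebraMap A (T w) (w ^ m)) :=
    (IsLocalization.map_units (T w) (⟨w ^ n, n, rfl⟩ : Submonoid.powers w)).mul
      (IsLocalization.map_units (T w) (⟨w ^ m, m, rfl⟩ : Submonoid.powers w))
  refine hu.mul_left_injective ?_
  show x * y * _ = 0 * _
  rw [zero_mul, mul_mul_mul_comm, hx1, hy1, ← map_mul, 𝔗.sq _ _ hx0 hy0, map_zero]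

theorem p_nil (w : A) (x : T w) (hx : x ∈ RingHom.ker (𝔗.p w)) : IsNilpotent x :=
  ⟨2, by rw [pow_two]; exact 𝔗.p_sq w x x hx hx⟩

/-- The kernel of the localised surjection. -/
def KerMod (w : A) : Type u := RingHom.ker (𝔗.p w)

instance (w : A) : AddCommGroup (𝔗.KerMod w) := inferInstanceAs (AddCommGroup (RingHom.ker (𝔗.p w)))

/-- The inclusion of the kernel. -/
def incl (w : A) : 𝔗.KerMod w →+ T w :=
  ((RingHom.ker (𝔗.p w)).subtype).toAddMonoidHom

theorem incl_injective (w : A) : Function.Injective (𝔗.incl w) := Subtype.val_injective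

theorem p_incl (w : A) (k : 𝔗.KerMod w) : 𝔗.p w (𝔗.incl w k) = 0 := k.2

theorem p_eq_mul {w : A} {t t' : T w} (h : 𝔗.p w t = 𝔗.p w t') (k : 𝔗.KerMod w) :
    t * 𝔗.incl w k = t' * 𝔗.incl w k := by
  rw [← sub_eq_zero, ← sub_mul]
  exact 𝔗.p_sq w _ _ (by rw [map_sub, h, sub_self]) (𝔗.p_incl w k)

/-- An element of the kernel. -/
def mkKer {w : A} (t : T w) (h : 𝔗.p w t = 0) : 𝔗.KerMod w := ⟨t, h⟩

theorem incl_mkKer {w : A} (t : T w) (h : 𝔗.p w t = 0) : 𝔗.incl w (𝔗.mkKer t h) = t := rfl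

instance (w : A) : SMul (𝔗.R w) (𝔗.KerMod w) :=
  ⟨fun r k => 𝔗.mkKer (Function.surjInv (𝔗.p_surjective w) r * 𝔗.incl w k)
    (by rw [map_mul, p_incl, mul_zero])⟩

theorem incl_smul {w : A} (r : 𝔗.R w) (k : 𝔗.KerMod w) (t : T w) (h : 𝔗.p w t = r) :
    𝔗.incl w (r • k) = t * 𝔗.incl w k :=
  𝔗.p_eq_mul ((Function.surjInv_eq (𝔗.p_surjective w) r).trans h.symm) k

theorem incl_smul' {w : A} (t : T w) (k : 𝔗.KerMod w) :
    𝔗.incl w (𝔗.p w t • k) = t * 𝔗.incl w k := 𝔗.incl_smul _ k t rfl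

instance (w : A) : Module (𝔗.R w) (𝔗.KerMod w) where
  one_smul k := 𝔗.incl_injective w (by rw [𝔗.incl_smul 1 k 1 (map_one _), one_mul])
  mul_smul r r' k := by
    obtain ⟨t, rfl⟩ := 𝔗.p_surjective w r
    obtain ⟨t', rfl⟩ := 𝔗.p_surjective w r'
    refine 𝔗.incl_injective w ?_
    rw [← map_mul, incl_smul', incl_smul', incl_smul', mul_assoc]
  smul_zero r := by
    obtain ⟨t, rfl⟩ := 𝔗.p_surjective w r
    exact 𝔗.incl_injective w (by rw [incl_smul', map_zero, mul_zero])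
  smul_add r k k' := by
    obtain ⟨t, rfl⟩ := 𝔗.p_surjective w r
    refine 𝔗.incl_injective w ?_
    rw [map_add, incl_smul', incl_smul', incl_smul', map_add, mul_add]
  add_smul r r' k := by
    obtain ⟨t, rfl⟩ := 𝔗.p_surjective w r
    obtain ⟨t', rfl⟩ := 𝔗.p_surjective w r'
    refine 𝔗.incl_injective w ?_
    rw [map_add (𝔗.incl w), ← map_add, incl_smul', incl_smul', incl_smul', add_mul]
  zero_smul k := 𝔗.incl_injective w (by rw [𝔗.incl_smul 0 k 0 (map_zero _), zero_mul, map_zero])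

instance (w : A) : Module A0 (𝔗.KerMod w) := Module.compHom _ (algebraMap A0 (𝔗.R w))

instance (w : A) : IsScalarTower A0 (𝔗.R w) (𝔗.KerMod w) :=
  IsScalarTower.of_algebraMap_smul fun _ _ => rfl

/-- The kernel as a module over the base ring. -/
abbrev I (w : A) : Type u := 𝔗.KerMod w

/-- The inclusion of `I w`. -/
abbrev ι (w : A) : 𝔗.I w →+ T w := 𝔗.incl w

theorem ι_injective (w : A) : Function.Injective (𝔗.ι w) := 𝔗.incl_injective w

theorem ι_smul_base {w : A} (r : A) (k : 𝔗.I w) :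
    𝔗.ι w (𝔗.π r • k) = algebraMap A (T w) r * 𝔗.ι w k :=
  𝔗.incl_smul (algebraMap A0 (𝔗.R w) (𝔗.π r)) k _ (𝔗.p_algebraMap w r)

section Res

variable {w v : A}

/-- Restriction of the thickened rings. -/
def res (h : w ∣ v) : T w →+* T v :=
  IsLocalization.Away.lift (g := algebraMap A (T v)) w
    (isUnit_of_dvd_unit (map_dvd _ h) (IsLocalization.Away.algebraMap_isUnit v))

theorem res_algebraMap (h : w ∣ v) (x : A) : res h (algebraMap A (T w) x) = algebraMap A (T v) x :=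
  IsLocalization.Away.lift_eq _ _ x

/-- Restriction of the base rings. -/
def resR (h : w ∣ v) : 𝔗.R w →ₐ[A0] 𝔗.R v :=
  awayHom (𝔗.π w) (𝔗.R v)
    (isUnit_of_dvd_unit (map_dvd _ (map_dvd _ h)) (IsLocalization.Away.algebraMap_isUnit _))

theorem p_res (h : w ∣ v) (t : T w) : 𝔗.p v (res h t) = 𝔗.resR h (𝔗.p w t) := by
  refine RingHom.congr_fun (f := (𝔗.p v).comp (res h)) (g := (𝔗.resR h).toRingHom.comp (𝔗.p w)) ?_ t
  refine IsLocalization.ringHom_ext (Submonoid.powers w) (RingHom.ext fun x => ?_)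
  show 𝔗.p v (res h (algebraMap A (T w) x)) = 𝔗.resR h (𝔗.p w (algebraMap A (T w) x))
  rw [res_algebraMap, p_algebraMap, p_algebraMap, AlgHom.commutes]

/-- Restriction of the kernels. -/
def resI (h : w ∣ v) : 𝔗.I w →ₗ[A0] 𝔗.I v where
  toFun k := 𝔗.mkKer (res h (𝔗.ι w k)) (by rw [p_res, show 𝔗.p w (𝔗.ι w k) = 0 from 𝔗.p_incl w k, map_zero])
  map_add' k k' := 𝔗.ι_injective v (by
    show res h (𝔗.ι w (k + k')) = _
    rw [map_add, map_add, map_add]
    rfl)
  map_smul' r k := 𝔗.ι_injective v (by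
    obtain ⟨r, rfl⟩ := 𝔗.surj r
    show res h (𝔗.ι w (𝔗.π r • k)) = _
    rw [RingHom.id_apply, ι_smul_base, ι_smul_base, map_mul, res_algebraMap]
    rfl)

theorem ι_resI (h : w ∣ v) (k : 𝔗.I w) : 𝔗.ι v (𝔗.resI h k) = res h (𝔗.ι w k) := rfl

theorem resI_smul (h : w ∣ v) (r : 𝔗.R w) (k : 𝔗.I w) :
    𝔗.resI h (r • k) = 𝔗.resR h r • 𝔗.resI h k := by
  obtain ⟨t, rfl⟩ := 𝔗.p_surjective w r
  refine 𝔗.ι_injective v ?_
  rw [← p_res]
  show res h (𝔗.incl w (𝔗.p w t • k)) = 𝔗.incl v (𝔗.p v (res h t) • 𝔗.resI h k)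
  rw [incl_smul', incl_smul', map_mul]
  rfl

theorem resI_comp {x : A} (h : w ∣ v) (h' : v ∣ x) (k : 𝔗.I w) :
    𝔗.resI h' (𝔗.resI h k) = 𝔗.resI (h.trans h') k := by
  refine 𝔗.ι_injective x ?_
  rw [ι_resI, ι_resI, ι_resI]
  exact RingHom.congr_fun (IsLocalization.ringHom_ext (Submonoid.powers w)
    (j := (res h').comp (res h)) (k := res (h.trans h')) (RingHom.ext fun y => by
      show res h' (res h (algebraMap A (T w) y)) = res (h.trans h') (algebraMap A (T w) y)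
      rw [res_algebraMap, res_algebraMap, res_algebraMap])) _

end Res

/-- The kernel of the surjection as a module over the base. -/
abbrev I₀ : Type u := 𝔗.I 1

instance isLocalizedModule_resI (w : A) :
    IsLocalizedModule (Submonoid.powers (𝔗.π w)) (𝔗.resI (one_dvd w)) := by
  refine ⟨?_, fun y => ?_, fun {x y} h => ?_⟩
  · rintro ⟨_, n, rfl⟩
    refine isUnit_end (𝔗.R w) ?_
    rw [map_pow]
    exact (IsLocalization.Away.algebraMap_isUnit (𝔗.π w)).pow n
  · obtain ⟨⟨z1, ⟨_, n, rfl⟩⟩, hz⟩ := IsLocalization.surj (Submonoid.powers w) (𝔗.ι w y)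
    have h0 : algebraMap A0 (𝔗.R w) (𝔗.π z1) = algebraMap A0 (𝔗.R w) 0 := by
      rw [← p_algebraMap, map_zero, ← hz, map_mul, show 𝔗.p w (𝔗.ι w y) = 0 from 𝔗.p_incl w y,
        zero_mul]
    obtain ⟨⟨_, m, rfl⟩, hm⟩ :=
      (IsLocalization.eq_iff_exists (Submonoid.powers (𝔗.π w)) (𝔗.R w)).1 h0
    have hker : 𝔗.p 1 (algebraMap A (T 1) (w ^ m * z1)) = 0 := by
      rw [p_algebraMap, map_mul, map_pow]
      simp only [mul_zero] at hm
      rw [hm, map_zero]
    refine ⟨(𝔗.mkKer _ hker, ⟨𝔗.π w ^ (n + m), n + m, rfl⟩), 𝔗.ι_injective w ?_⟩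
    show 𝔗.ι w (𝔗.π w ^ (n + m) • y) = res (one_dvd w) (algebraMap A (T 1) (w ^ m * z1))
    simp only at hz
    rw [← map_pow, ι_smul_base, res_algebraMap, map_mul, ← hz, pow_add, map_mul]
    ring
  · have h' := congrArg (𝔗.ι w) h
    rw [ι_resI, ι_resI] at h'
    obtain ⟨⟨x0, ⟨_, n, rfl⟩⟩, hx⟩ := IsLocalization.surj (Submonoid.powers (1 : A)) (𝔗.ι 1 x)
    obtain ⟨⟨y0, ⟨_, m, rfl⟩⟩, hy⟩ := IsLocalization.surj (Submonoid.powers (1 : A)) (𝔗.ι 1 y)
    simp only [one_pow, map_one, mul_one] at hx hy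
    rw [hx, hy, res_algebraMap, res_algebraMap] at h'
    obtain ⟨⟨_, k, rfl⟩, hk⟩ := (IsLocalization.eq_iff_exists (Submonoid.powers w) (T w)).1 h'
    refine ⟨⟨𝔗.π w ^ k, k, rfl⟩, 𝔗.ι_injective 1 ?_⟩
    show 𝔗.ι 1 (𝔗.π w ^ k • x) = 𝔗.ι 1 (𝔗.π w ^ k • y)
    rw [← map_pow, ι_smul_base, ι_smul_base, hx, hy, ← map_mul, ← map_mul]
    exact congrArg _ hk

end SqExt

section Lifts

variable {X Y : Scheme.{u}} (f : X ⟶ Y) (a : Spec (CommRingCat.of A) ⟶ Y)
  (a0 : Spec (CommRingCat.of A0) ⟶ X)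

/-- A lift of `a0` over a basic open of the thickening. -/
def IsLift (w : A) (b : Spec (CommRingCat.of (SqExt.T w)) ⟶ X) : Prop :=
  Spec.map (CommRingCat.ofHom (𝔗.p w)) ≫ b = a0R a0 (𝔗.R w) ∧
    b ≫ f = Spec.map (CommRingCat.ofHom (algebraMap A (SqExt.T w))) ≫ a

variable {𝔗 f a a0}

theorem IsLift.restrict {w v : A} {b : Spec (CommRingCat.of (SqExt.T w)) ⟶ X}
    (hb : IsLift 𝔗 f a a0 w b) (h : w ∣ v) :
    IsLift 𝔗 f a a0 v (Spec.map (CommRingCat.ofHom (SqExt.res h)) ≫ b) := by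
  constructor
  · rw [← Category.assoc, ← Spec.map_comp, ← CommRingCat.ofHom_comp,
      show (𝔗.p v).comp (SqExt.res h) = (𝔗.resR h).toRingHom.comp (𝔗.p w) from
        RingHom.ext (𝔗.p_res h),
      CommRingCat.ofHom_comp, Spec.map_comp, Category.assoc, hb.1, specMap_a0R]
  · rw [Category.assoc, hb.2, ← Category.assoc, ← Spec.map_comp, ← CommRingCat.ofHom_comp]
    congr 3
    exact RingHom.ext fun x => SqExt.res_algebraMap h x

theorem IsLift.le_preimage {w : A} {b : Spec (CommRingCat.of (SqExt.T w)) ⟶ X}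
    (hb : IsLift 𝔗 f a a0 w b) {c : Chart f} (h : Small a0 (𝔗.R w) c) : ⊤ ≤ b ⁻¹ᵁ c.U :=
  le_preimage_of_nil _ (𝔗.p_surjective w) (𝔗.p_nil w) _ (by rw [hb.1]; exact h)

theorem IsLift.p_readHom {w : A} {b : Spec (CommRingCat.of (SqExt.T w)) ⟶ X}
    (hb : IsLift 𝔗 f a a0 w b) {c : Chart f} (h : Small a0 (𝔗.R w) c) :
    (𝔗.p w).comp (readHom b c.U (hb.le_preimage h)) = chi h := by
  rw [← readHom_specMap (𝔗.p w) b c.U (hb.le_preimage h)]
  exact readHom_congr hb.1 c.U _ h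

theorem IsLift.readHom_base {w : A} {b b' : Spec (CommRingCat.of (SqExt.T w)) ⟶ X}
    (hb : IsLift 𝔗 f a a0 w b) (hb' : IsLift 𝔗 f a a0 w b') {c : Chart f}
    (h : Small a0 (𝔗.R w) c) (s : Γ(Y, c.V)) :
    readHom b c.U (hb.le_preimage h) ((f.appLE c.V c.U c.e).hom s) =
      readHom b' c.U (hb'.le_preimage h) ((f.appLE c.V c.U c.e).hom s) := by
  have e1 := readHom_comp b f c.e (hb.le_preimage h)
  have e2 := readHom_comp b' f c.e (hb'.le_preimage h)
  have e3 := readHom_congr (hb.2.trans hb'.2.symm) c.V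
    (fun _ _ => c.e (hb.le_preimage h trivial)) (fun _ _ => c.e (hb'.le_preimage h trivial))
  exact RingHom.congr_fun ((e1.symm.trans e3).trans e2) s

/-- The difference of two lifts, read on a chart. -/
def diffDer {w : A} {b b' : Spec (CommRingCat.of (SqExt.T w)) ⟶ X} (hb : IsLift 𝔗 f a a0 w b)
    (hb' : IsLift 𝔗 f a a0 w b') {c : Chart f} (h : Small a0 (𝔗.R w) c) :
    Γ(X, c.U) →+ 𝔗.I w where
  toFun x := 𝔗.mkKer (readHom b' c.U (hb'.le_preimage h) x - readHom b c.U (hb.le_preimage h) x)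
    (by
      rw [map_sub]
      exact sub_eq_zero.2 ((RingHom.congr_fun (hb'.p_readHom h) x).trans
        (RingHom.congr_fun (hb.p_readHom h) x).symm))
  map_zero' := 𝔗.ι_injective w (by
    show readHom b' c.U (hb'.le_preimage h) 0 - readHom b c.U (hb.le_preimage h) 0 = _
    rw [map_zero, map_zero, sub_zero, map_zero])
  map_add' x y := 𝔗.ι_injective w (by
    show readHom b' c.U (hb'.le_preimage h) (x + y) - readHom b c.U (hb.le_preimage h) (x + y) =
      𝔗.incl w (_ + _)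
    rw [map_add, map_add, map_add]
    show _ = readHom b' c.U (hb'.le_preimage h) x - readHom b c.U (hb.le_preimage h) x +
      (readHom b' c.U (hb'.le_preimage h) y - readHom b c.U (hb.le_preimage h) y)
    ring)

theorem ι_diffDer {w : A} {b b' : Spec (CommRingCat.of (SqExt.T w)) ⟶ X}
    (hb : IsLift 𝔗 f a a0 w b) (hb' : IsLift 𝔗 f a a0 w b') {c : Chart f}
    (h : Small a0 (𝔗.R w) c) (x : Γ(X, c.U)) :
    𝔗.ι w (diffDer hb hb' h x) =
      readHom b' c.U (hb'.le_preimage h) x - readHom b c.U (hb.le_preimage h) x := rfl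

theorem isDer_diffDer {w : A} {b b' : Spec (CommRingCat.of (SqExt.T w)) ⟶ X}
    (hb : IsLift 𝔗 f a a0 w b) (hb' : IsLift 𝔗 f a a0 w b') {c : Chart f}
    (h : Small a0 (𝔗.R w) c) : IsDer h (diffDer hb hb' h) := by
  refine ⟨fun x y => 𝔗.ι_injective w ?_, fun s => 𝔗.ι_injective w ?_⟩
  · rw [map_add (𝔗.ι w), ← RingHom.congr_fun (hb.p_readHom h) x,
      ← RingHom.congr_fun (hb'.p_readHom h) y, RingHom.comp_apply, RingHom.comp_apply]
    show _ = 𝔗.incl w (𝔗.p w _ • _) + 𝔗.incl w (𝔗.p w _ • _)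
    rw [SqExt.incl_smul', SqExt.incl_smul', ι_diffDer, map_mul, map_mul]
    show _ = _ * 𝔗.ι w (diffDer hb hb' h y) + _ * 𝔗.ι w (diffDer hb hb' h x)
    rw [ι_diffDer, ι_diffDer]
    ring
  · rw [ι_diffDer, hb.readHom_base hb' h s, sub_self, map_zero]

/-- The pairs congruent modulo the kernel. -/
def pairs (𝔗 : SqExt A A0) (w : A) : Subring (SqExt.T w × SqExt.T w) :=
  RingHom.eqLocus ((𝔗.p w).comp (RingHom.fst _ _)) ((𝔗.p w).comp (RingHom.snd _ _))

/-- The ring map from pairs to the trivial extension. -/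
def pairsToTriv (𝔗 : SqExt A A0) (w : A) : pairs 𝔗 w →+* Triv (𝔗.R w) (𝔗.I w) :=
  Triv.lift ((𝔗.p w).comp ((RingHom.fst _ _).comp (pairs 𝔗 w).subtype))
    { toFun := fun z => 𝔗.mkKer (z.1.2 - z.1.1) (by rw [map_sub]; exact sub_eq_zero.2 z.2.symm)
      map_zero' := 𝔗.ι_injective w (show ((0 : SqExt.T w) - 0) = _ by rw [sub_zero, map_zero])
      map_add' := fun z z' => 𝔗.ι_injective w (by
        show (z.1.2 + z'.1.2) - (z.1.1 + z'.1.1) = 𝔗.incl w (_ + _)
        rw [map_add]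
        show _ = (z.1.2 - z.1.1) + (z'.1.2 - z'.1.1)
        ring) }
    fun z z' => 𝔗.ι_injective w (by
      show z.1.2 * z'.1.2 - z.1.1 * z'.1.1 = 𝔗.incl w (𝔗.p w z.1.1 • _ + 𝔗.p w z'.1.1 • _)
      rw [map_add, SqExt.incl_smul', SqExt.incl_smul']
      show _ = z.1.1 * (z'.1.2 - z'.1.1) + z'.1.1 * (z.1.2 - z.1.1)
      linear_combination 𝔗.p_sq w (z.1.2 - z.1.1) (z'.1.2 - z'.1.1)
        (by rw [map_sub]; exact sub_eq_zero.2 z.2.symm)
        (by rw [map_sub]; exact sub_eq_zero.2 z'.2.symm))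

theorem exists_diff {w : A} {b b' : Spec (CommRingCat.of (SqExt.T w)) ⟶ X}
    (hb : IsLift 𝔗 f a a0 w b) (hb' : IsLift 𝔗 f a a0 w b') {c : Chart f}
    (h : Small a0 (𝔗.R w) c) :
    ∃ q : Pt f a0 (𝔗.R w) (𝔗.I w),
      ∀ (c' : Chart f) (h' : Small a0 (𝔗.R w) c'), q.der h' = diffDer hb hb' h' := by
  let P := pairs 𝔗 w
  let φ : Γ(X, c.U) →+* P :=
    RingHom.codRestrict (RingHom.prod (readHom b c.U (hb.le_preimage h))
      (readHom b' c.U (hb'.le_preimage h))) P fun x => by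
      show 𝔗.p w _ = 𝔗.p w _
      exact (RingHom.congr_fun (hb.p_readHom h) x).trans (RingHom.congr_fun (hb'.p_readHom h) x).symm
  let q2 : Spec (CommRingCat.of P) ⟶ X := ofReadHom c.hU φ
  have hq1 : Spec.map (CommRingCat.ofHom ((RingHom.fst _ _).comp P.subtype)) ≫ q2 = b := by
    refine ext_readHom c.hU (le_preimage_specMap _ (le_preimage_ofReadHom c.hU φ)) (hb.le_preimage h) ?_
    rw [readHom_specMap _ q2 c.U (le_preimage_ofReadHom c.hU φ), readHom_ofReadHom]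
    rfl
  have hq2 : Spec.map (CommRingCat.ofHom ((RingHom.snd _ _).comp P.subtype)) ≫ q2 = b' := by
    refine ext_readHom c.hU (le_preimage_specMap _ (le_preimage_ofReadHom c.hU φ)) (hb'.le_preimage h) ?_
    rw [readHom_specMap _ q2 c.U (le_preimage_ofReadHom c.hU φ), readHom_ofReadHom]
    rfl
  have hq2' : ∀ (c' : Chart f), Small a0 (𝔗.R w) c' → ⊤ ≤ q2 ⁻¹ᵁ c'.U := by
    intro c' h'
    refine le_preimage_of_nil ((RingHom.fst _ _).comp P.subtype)
      (fun t => ⟨⟨(t, t), rfl⟩, rfl⟩) ?_ _ (by rw [hq1]; exact hb.le_preimage h')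
    intro z hz
    have hz1 : z.1.1 = 0 := hz
    have hz2 : 𝔗.p w z.1.2 = 0 := by
      have h2 : 𝔗.p w z.1.1 = 𝔗.p w z.1.2 := z.2
      rw [hz1, map_zero] at h2
      exact h2.symm
    refine ⟨2, Subtype.ext (Prod.ext ?_ ?_)⟩
    · show z.1.1 ^ 2 = 0
      rw [hz1]; simp
    · show z.1.2 ^ 2 = 0
      rw [pow_two]; exact 𝔗.p_sq w _ _ hz2 hz2
  have hread : ∀ (c' : Chart f) (h' : Small a0 (𝔗.R w) c') (x : Γ(X, c'.U)),
      (readHom q2 c'.U (hq2' c' h') x).1 =
        (readHom b c'.U (hb.le_preimage h') x, readHom b' c'.U (hb'.le_preimage h') x) := by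
    intro c' h' x
    have e1 := readHom_congr hq1 c'.U (le_preimage_specMap _ (hq2' c' h')) (hb.le_preimage h')
    rw [readHom_specMap _ q2 c'.U (hq2' c' h')] at e1
    have e2 := readHom_congr hq2 c'.U (le_preimage_specMap _ (hq2' c' h')) (hb'.le_preimage h')
    rw [readHom_specMap _ q2 c'.U (hq2' c' h')] at e2
    exact Prod.ext (RingHom.congr_fun e1 x) (RingHom.congr_fun e2 x)
  let hom := Spec.map (CommRingCat.ofHom (pairsToTriv 𝔗 w)) ≫ q2
  refine ⟨⟨hom, ?_, ?_⟩, fun c' h' => ?_⟩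
  · rw [← Category.assoc, ← Spec.map_comp, ← CommRingCat.ofHom_comp,
      show (Triv.fst _ _).comp (pairsToTriv 𝔗 w) =
        (𝔗.p w).comp ((RingHom.fst _ _).comp P.subtype) from rfl,
      CommRingCat.ofHom_comp, Spec.map_comp, Category.assoc, hq1, hb.1]
  · refine ext_readHom c.hV
      (fun _ _ => c.e (le_preimage_specMap (pairsToTriv 𝔗 w) (hq2' c h) trivial))
      (le_preimage_specMap _ (fun _ _ => c.e (h trivial))) ?_
    rw [readHom_comp hom f c.e (le_preimage_specMap (pairsToTriv 𝔗 w) (hq2' c h)),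
      readHom_specMap (pairsToTriv 𝔗 w) q2 c.U (hq2' c h),
      readHom_specMap (Triv.inl _ _) (a0R a0 (𝔗.R w) ≫ f) c.V (fun _ _ => c.e (h trivial)),
      readHom_comp (a0R a0 (𝔗.R w)) f c.e h]
    refine RingHom.ext fun s => Triv.ext ?_ (𝔗.ι_injective w ?_)
    · show 𝔗.p w (readHom q2 c.U (hq2' c h) ((f.appLE c.V c.U c.e).hom s)).1.1 = _
      rw [hread c h]
      exact RingHom.congr_fun (hb.p_readHom h) _
    · show (readHom q2 c.U (hq2' c h) ((f.appLE c.V c.U c.e).hom s)).1.2 -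
        (readHom q2 c.U (hq2' c h) ((f.appLE c.V c.U c.e).hom s)).1.1 = 𝔗.incl w 0
      rw [hread c h, map_zero, hb.readHom_base hb' h s, sub_self]
  · refine AddMonoidHom.ext fun x => 𝔗.ι_injective w ?_
    show 𝔗.ι w (readHom hom c'.U _ x).2 = _
    rw [readHom_specMap (pairsToTriv 𝔗 w) q2 c'.U (hq2' c' h'), ι_diffDer]
    show (readHom q2 c'.U (hq2' c' h') x).1.2 - (readHom q2 c'.U (hq2' c' h') x).1.1 = _
    rw [hread c' h']

/-- Moving a lift by a derivation. -/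
theorem exists_translate {w : A} {b : Spec (CommRingCat.of (SqExt.T w)) ⟶ X}
    (hb : IsLift 𝔗 f a a0 w b) {c : Chart f} (h : Small a0 (𝔗.R w) c)
    {δ : Γ(X, c.U) →+ 𝔗.I w} (hδ : IsDer h δ) :
    ∃ (b' : Spec (CommRingCat.of (SqExt.T w)) ⟶ X) (hb' : IsLift 𝔗 f a a0 w b'),
      diffDer hb hb' h = δ := by
  let r := readHom b c.U (hb.le_preimage h)
  have hp : ∀ x, 𝔗.p w (r x) = chi h x := RingHom.congr_fun (hb.p_readHom h)
  let φ : Γ(X, c.U) →+* SqExt.T w :=
    RingHom.mk' { toFun := fun x => r x + 𝔗.ι w (δ x)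
                  map_one' := by
                    have h1 : δ 1 = 0 := by
                      have h2 := hδ.leibniz 1 1
                      simp only [mul_one, map_one, one_smul] at h2
                      simpa using h2.symm
                    rw [map_one, h1, map_zero, add_zero]
                  map_mul' := fun x y => by
                    rw [map_mul, hδ.leibniz, map_add, ← hp x, ← hp y]
                    show _ + (𝔗.incl w (𝔗.p w _ • _) + 𝔗.incl w (𝔗.p w _ • _)) = _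
                    rw [SqExt.incl_smul', SqExt.incl_smul']
                    linear_combination -(𝔗.p_sq w _ _ (𝔗.p_incl w (δ x)) (𝔗.p_incl w (δ y))) }
      fun x y => by
        show r (x + y) + 𝔗.ι w (δ (x + y)) = r x + 𝔗.ι w (δ x) + (r y + 𝔗.ι w (δ y))
        rw [map_add, map_add, map_add]
        ring
  have h1 : Spec.map (CommRingCat.ofHom (𝔗.p w)) ≫ ofReadHom c.hU φ = a0R a0 (𝔗.R w) := by
    refine ext_readHom c.hU (le_preimage_specMap _ (le_preimage_ofReadHom c.hU φ)) h ?_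
    rw [readHom_specMap _ _ c.U (le_preimage_ofReadHom c.hU φ), readHom_ofReadHom]
    refine RingHom.ext fun x => ?_
    show 𝔗.p w (r x + 𝔗.incl w (δ x)) = chi h x
    rw [map_add, hp, SqExt.p_incl, add_zero]
  have h2 : ofReadHom c.hU φ ≫ f = Spec.map (CommRingCat.ofHom (algebraMap A (SqExt.T w))) ≫ a := by
    rw [← hb.2]
    refine ext_readHom c.hV (fun _ _ => c.e (le_preimage_ofReadHom c.hU φ trivial))
      (fun _ _ => c.e (hb.le_preimage h trivial)) ?_
    rw [readHom_comp _ f c.e (le_preimage_ofReadHom c.hU φ), readHom_ofReadHom,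
      readHom_comp b f c.e (hb.le_preimage h)]
    refine RingHom.ext fun s => ?_
    show r _ + 𝔗.ι w (δ _) = _
    rw [hδ.base, map_zero, add_zero]
    rfl
  refine ⟨_, ⟨h1, h2⟩, AddMonoidHom.ext fun x => 𝔗.ι_injective w ?_⟩
  rw [ι_diffDer, readHom_ofReadHom]
  show r x + 𝔗.ι w (δ x) - r x = _
  ring

theorem diffDer_res {w v : A} {b b' : Spec (CommRingCat.of (SqExt.T w)) ⟶ X}
    (hb : IsLift 𝔗 f a a0 w b) (hb' : IsLift 𝔗 f a a0 w b') (hwv : w ∣ v) {c : Chart f}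
    (h : Small a0 (𝔗.R w) c) (x : Γ(X, c.U)) :
    diffDer (hb.restrict hwv) (hb'.restrict hwv) (h.map (𝔗.resR hwv)) x =
      𝔗.resI hwv (diffDer hb hb' h x) := by
  refine 𝔗.ι_injective v ?_
  rw [ι_diffDer, SqExt.ι_resI, ι_diffDer, map_sub,
    readHom_specMap _ b' c.U (hb'.le_preimage h), readHom_specMap _ b c.U (hb.le_preimage h)]
  rfl

theorem diffDer_add {w : A} {b b' b'' : Spec (CommRingCat.of (SqExt.T w)) ⟶ X}
    (hb : IsLift 𝔗 f a a0 w b) (hb' : IsLift 𝔗 f a a0 w b') (hb'' : IsLift 𝔗 f a a0 w b'')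
    {c : Chart f} (h : Small a0 (𝔗.R w) c) :
    diffDer hb hb'' h = diffDer hb hb' h + diffDer hb' hb'' h := by
  refine AddMonoidHom.ext fun x => 𝔗.ι_injective w ?_
  show _ = 𝔗.ι w (diffDer hb hb' h x + diffDer hb' hb'' h x)
  rw [map_add, ι_diffDer, ι_diffDer, ι_diffDer]
  ring

theorem eq_of_diffDer_eq_zero {w : A} {b b' : Spec (CommRingCat.of (SqExt.T w)) ⟶ X}
    (hb : IsLift 𝔗 f a a0 w b) (hb' : IsLift 𝔗 f a a0 w b') {c : Chart f}
    (h : Small a0 (𝔗.R w) c) (h0 : diffDer hb hb' h = 0) : b = b' := by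
  refine ext_readHom c.hU (hb.le_preimage h) (hb'.le_preimage h) (RingHom.ext fun x => ?_)
  have hx := ι_diffDer hb hb' h x
  rw [h0, AddMonoidHom.zero_apply, map_zero] at hx
  exact (sub_eq_zero.1 hx.symm).symm

end Lifts

end Groth.L20.SmoothLocal
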