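import Groth.Agent.L20.SmoothLocal.Pt
import Groth.Agent.L20.SmoothLocal.Cech

/-!
# The glued universal module of derivations
-/

set_option autoImplicit false
set_option backward.isDefEq.respectTransparency.types false
set_option linter.style.haveILetI false
set_option linter.unusedVariables false

universe u

open CategoryTheory CategoryTheory.Limits AlgebraicGeometry Opposite TopologicalSpace

noncomputable section

namespace Groth.L20.SmoothLocal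

section Res

/-- A module over an algebra as a module over the base. -/
def ResMod (A0 R P : Type u) : Type u := P

variable (A0 : Type u) [CommRing A0] (R : Type u) [CommRing R] [Algebra A0 R] (Q : Type u)
  [AddCommGroup Q] [Module R Q]

instance : AddCommGroup (ResMod A0 R Q) := inferInstanceAs (AddCommGroup Q)
instance : Module R (ResMod A0 R Q) := inferInstanceAs (Module R Q)
instance : Module A0 (ResMod A0 R Q) := Module.compHom Q (algebraMap A0 R)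
instance : IsScalarTower A0 R (ResMod A0 R Q) := IsScalarTower.of_algebraMap_smul fun _ _ => rfl

variable {A0}

/-- The algebra map out of a localisation away from an element. -/
def awayHom (a : A0) (T : Type u) [CommRing T] [Algebra A0 T] (h : IsUnit (algebraMap A0 T a)) :
    Localization.Away a →ₐ[A0] T :=
  { IsLocalization.Away.lift a h with
    commutes' := fun r => IsLocalization.Away.lift_eq a h r }

theorem isLocalizedModule_restrictScalars {S : Type u} [CommRing S] [Algebra A0 S] {M M' : Type u}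
    [AddCommGroup M] [Module A0 M] [Module S M] [IsScalarTower A0 S M]
    [AddCommGroup M'] [Module A0 M'] [Module S M'] [IsScalarTower A0 S M'] (f : M →ₗ[S] M') (a : A0)
    [IsLocalizedModule (Submonoid.powers (algebraMap A0 S a)) f] :
    IsLocalizedModule (Submonoid.powers a) (f.restrictScalars A0) := by
  refine ⟨?_, fun y => ?_, fun {x y} h => ?_⟩
  · rintro ⟨_, n, rfl⟩
    rw [Module.End.isUnit_iff]
    have h := (Module.End.isUnit_iff _).1 (IsLocalizedModule.map_units f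
      (⟨algebraMap A0 S a ^ n, n, rfl⟩ : Submonoid.powers (algebraMap A0 S a)))
    have e : ∀ z : M', algebraMap A0 (Module.End A0 M') (a ^ n) z =
        algebraMap S (Module.End S M') (algebraMap A0 S a ^ n) z := fun z => by
      simp only [Module.algebraMap_end_apply, ← map_pow, algebraMap_smul]
    exact (funext e : ⇑(algebraMap A0 (Module.End A0 M') (a ^ n)) = _) ▸ h
  · obtain ⟨n, m, hm⟩ := away_surj (algebraMap A0 S a) f y
    refine ⟨(m, ⟨a ^ n, n, rfl⟩), ?_⟩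
    show a ^ n • y = f m
    rw [← hm, ← map_pow, algebraMap_smul]
  · obtain ⟨n, hn⟩ := away_eq (algebraMap A0 S a) f h
    refine ⟨⟨a ^ n, n, rfl⟩, ?_⟩
    show a ^ n • x = a ^ n • y
    rwa [← map_pow, algebraMap_smul, algebraMap_smul] at hn

/-- Semilinearity propagates to a localisation. -/
theorem semilinear_away {S T : Type u} [CommRing S] [CommRing T] [Algebra S T] (s : S)
    [IsLocalization.Away s T] {M M' : Type u} [AddCommGroup M] [Module T M] [AddCommGroup M']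
    {R' : Type u} [CommRing R'] [Module R' M'] (g : T →+* R') (φ : M →+ M')
    (h : ∀ (x : S) (m : M), φ (algebraMap S T x • m) = g (algebraMap S T x) • φ m) :
    ∀ (t : T) (m : M), φ (t • m) = g t • φ m := by
  intro t m
  obtain ⟨⟨x, ⟨_, n, rfl⟩⟩, hx⟩ := IsLocalization.surj (Submonoid.powers s) t
  have hu : IsUnit (g (algebraMap S T (s ^ n))) :=
    (IsLocalization.map_units T (⟨s ^ n, n, rfl⟩ : Submonoid.powers s)).map g
  refine (hu.smul_left_cancel).1 ?_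
  rw [← h, ← mul_smul, mul_comm, hx, h, ← mul_smul, ← map_mul]
  congr 2
  rw [mul_comm]
  exact hx.symm

theorem semilinear_of_linear {a : A0} {R' : Type u} [CommRing R'] [Algebra A0 R']
    {M M' : Type u} [AddCommGroup M] [Module A0 M] [Module (Localization.Away a) M]
    [IsScalarTower A0 (Localization.Away a) M] [AddCommGroup M'] [Module A0 M'] [Module R' M']
    [IsScalarTower A0 R' M'] (g : Localization.Away a →ₐ[A0] R') (φ : M →ₗ[A0] M') :
    ∀ (t : Localization.Away a) (m : M), φ (t • m) = g t • φ m :=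
  semilinear_away a g.toRingHom φ.toAddMonoidHom fun x m => by
    show φ (algebraMap A0 (Localization.Away a) x • m) = g (algebraMap A0 _ x) • φ m
    rw [g.commutes, algebraMap_smul, algebraMap_smul, map_smul]

theorem mkLinearMap_smul {S : Type u} [CommRing S] (N : Submonoid S) {M : Type u} [AddCommGroup M]
    [Module S M] (t : S) (m : M) :
    LocalizedModule.mkLinearMap N M (t • m) =
      algebraMap S (Localization N) t • LocalizedModule.mkLinearMap N M m := by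
  rw [algebraMap_smul, map_smul]

theorem isUnit_algebraMap_away {S : Type u} [CommRing S] (x : S) :
    IsUnit (algebraMap S (Localization.Away x) x) :=
  IsLocalization.Away.algebraMap_isUnit _

theorem isUnit_end {M : Type u} [AddCommGroup M] [Module A0 M] [Module R M] [IsScalarTower A0 R M]
    {r : A0} (h : IsUnit (algebraMap A0 R r)) : IsUnit (algebraMap A0 (Module.End A0 M) r) := by
  rw [Module.End.isUnit_iff]
  have e : (algebraMap A0 (Module.End A0 M) r : M → M) = fun m => algebraMap A0 R r • m :=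
    funext fun m => (algebraMap_smul R r m).symm
  rw [e]
  exact h.smul_bijective

end Res

variable {X Y : Scheme.{u}} (f : X ⟶ Y) {A0 : Type u} [CommRing A0]
  (a0 : Spec (CommRingCat.of A0) ⟶ X)

/-- A finite affine atlas adapted to `a0`. -/
structure Atlas where
  ι : Type
  [finite : Finite ι]
  a : ι → A0
  span : Ideal.span (Set.range a) = ⊤
  c : ι → Chart f
  small : ∀ i, Small a0 (Localization.Away (a i)) (c i)

variable {f a0}

namespace Atlas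

variable (𝔄 : Atlas f a0)

instance : Finite 𝔄.ι := 𝔄.finite

/-- The ring of the `i`-th piece. -/
abbrev R1 (i : 𝔄.ι) : Type u := Localization.Away (𝔄.a i)

/-- The carrier of the universal module of the `i`-th chart. -/
def P1' (i : 𝔄.ι) : Type u := (exists_universal_der (𝔄.small i)).choose

instance (i : 𝔄.ι) : AddCommGroup (𝔄.P1' i) := (exists_universal_der (𝔄.small i)).choose_spec.choose

instance (i : 𝔄.ι) : Module (𝔄.R1 i) (𝔄.P1' i) :=
  (exists_universal_der (𝔄.small i)).choose_spec.choose_spec.choose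

/-- The universal module of the `i`-th chart. -/
abbrev P1 (i : 𝔄.ι) : Type u := ResMod A0 (𝔄.R1 i) (𝔄.P1' i)

/-- The universal derivation of the `i`-th chart. -/
def δ1 (i : 𝔄.ι) : Γ(X, (𝔄.c i).U) →+ 𝔄.P1 i :=
  (exists_universal_der (𝔄.small i)).choose_spec.choose_spec.choose_spec.choose

theorem δ1_spec (i : 𝔄.ι) :
    IsDer (M := 𝔄.P1 i) (𝔄.small i) (𝔄.δ1 i) ∧
      (∀ (M : Type u) [AddCommGroup M] [Module (𝔄.R1 i) M] (δ' : Γ(X, (𝔄.c i).U) →+ M),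
        IsDer (𝔄.small i) δ' → ∃! θ : 𝔄.P1 i →ₗ[𝔄.R1 i] M, ∀ x, θ (𝔄.δ1 i x) = δ' x) ∧
      ((letI := (f.appLE (𝔄.c i).V (𝔄.c i).U (𝔄.c i).e).hom.toAlgebra
        Algebra.FormallySmooth Γ(Y, (𝔄.c i).V) Γ(X, (𝔄.c i).U)) →
          Module.Projective (𝔄.R1 i) (𝔄.P1 i)) ∧
      ((f.appLE (𝔄.c i).V (𝔄.c i).U (𝔄.c i).e).hom.FinitePresentation →
        Module.FinitePresentation (𝔄.R1 i) (𝔄.P1 i)) :=
  (exists_universal_der (𝔄.small i)).choose_spec.choose_spec.choose_spec.choose_spec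

section Theta

variable {R : Type u} [CommRing R] [Algebra A0 R] {M : Type u} [AddCommGroup M] [Module R M]
  [Module A0 M] [IsScalarTower A0 R M]

theorem small' {i : 𝔄.ι} (hu : IsUnit (algebraMap A0 R (𝔄.a i))) : Small a0 R (𝔄.c i) :=
  (𝔄.small i).map (awayHom _ R hu)

theorem existsUnique_theta {i : 𝔄.ι} (hu : IsUnit (algebraMap A0 R (𝔄.a i)))
    (δ' : Γ(X, (𝔄.c i).U) →+ M) (hδ' : IsDer (𝔄.small' hu) δ') :
    ∃! θ : 𝔄.P1 i →ₗ[A0] M, ∀ x, θ (𝔄.δ1 i x) = δ' x := by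
  let g := awayHom (𝔄.a i) R hu
  letI : Module (𝔄.R1 i) M := Module.compHom M g.toRingHom
  haveI : IsScalarTower A0 (𝔄.R1 i) M := IsScalarTower.of_algebraMap_smul fun r m => by
    show g (algebraMap A0 _ r) • m = r • m
    rw [g.commutes, algebraMap_smul]
  have hd : IsDer (𝔄.small i) δ' := ⟨fun x y => by
    show δ' (x * y) = g (chi (𝔄.small i) x) • δ' y + g (chi (𝔄.small i) y) • δ' x
    rw [hδ'.leibniz, chi_map (𝔄.small i) g]
    rfl, hδ'.base⟩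
  obtain ⟨θ, hθ, hun⟩ := (𝔄.δ1_spec i).2.1 M δ' hd
  refine ⟨θ.restrictScalars A0, hθ, fun θ' hθ' => ?_⟩
  have h := hun { toFun := θ', map_add' := map_add θ', map_smul' := semilinear_of_linear g θ' } hθ'
  exact LinearMap.ext fun x => LinearMap.congr_fun h x

/-- The linear map classifying a point on the `i`-th chart. -/
def theta (i : 𝔄.ι) (hu : IsUnit (algebraMap A0 R (𝔄.a i))) (q : Pt f a0 R M) :
    𝔄.P1 i →ₗ[A0] M :=
  (𝔄.existsUnique_theta hu (q.der (𝔄.small' hu)) (q.isDer_der _)).choose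

theorem theta_δ1 (i : 𝔄.ι) (hu : IsUnit (algebraMap A0 R (𝔄.a i))) (q : Pt f a0 R M) (x) :
    𝔄.theta i hu q (𝔄.δ1 i x) = q.der (𝔄.small' hu) x :=
  (𝔄.existsUnique_theta hu (q.der (𝔄.small' hu)) (q.isDer_der _)).choose_spec.1 x

theorem theta_unique (i : 𝔄.ι) (hu : IsUnit (algebraMap A0 R (𝔄.a i))) (q : Pt f a0 R M)
    (θ : 𝔄.P1 i →ₗ[A0] M) (h : ∀ x, θ (𝔄.δ1 i x) = q.der (𝔄.small' hu) x) :
    𝔄.theta i hu q = θ :=
  ((𝔄.existsUnique_theta hu (q.der (𝔄.small' hu)) (q.isDer_der _)).choose_spec.2 θ h).symm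

variable {R' : Type u} [CommRing R'] [Algebra A0 R'] {M' : Type u} [AddCommGroup M'] [Module R' M']
  [Module A0 M'] [IsScalarTower A0 R' M']

theorem theta_map (i : 𝔄.ι) (hu : IsUnit (algebraMap A0 R (𝔄.a i))) (q : Pt f a0 R M)
    (g : R →ₐ[A0] R') (φ : M →ₗ[A0] M') (hφ : ∀ (r : R) (m : M), φ (r • m) = g r • φ m)
    (hu' : IsUnit (algebraMap A0 R' (𝔄.a i))) :
    𝔄.theta i hu' (q.map g φ.toAddMonoidHom hφ) = φ.comp (𝔄.theta i hu q) := by
  refine 𝔄.theta_unique _ _ _ _ fun x => ?_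
  rw [LinearMap.comp_apply, theta_δ1]
  exact (DFunLike.congr_fun (q.der_map g φ.toAddMonoidHom hφ (𝔄.small' hu)) x).symm

end Theta

/-- The ring of a double overlap. -/
abbrev R2 (i j : 𝔄.ι) : Type u := Localization.Away (algebraMap A0 (𝔄.R1 i) (𝔄.a j))

/-- The module of a double overlap. -/
abbrev P2 (i j : 𝔄.ι) : Type u :=
  LocalizedModule (Submonoid.powers (algebraMap A0 (𝔄.R1 i) (𝔄.a j))) (𝔄.P1 i)

/-- The first restriction. -/
def l (i j : 𝔄.ι) : 𝔄.P1 i →ₗ[A0] 𝔄.P2 i j :=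
  (LocalizedModule.mkLinearMap (Submonoid.powers (algebraMap A0 (𝔄.R1 i) (𝔄.a j)))
    (𝔄.P1 i)).restrictScalars A0

instance (i j : 𝔄.ι) : IsLocalizedModule (Submonoid.powers (𝔄.a j)) (𝔄.l i j) :=
  isLocalizedModule_restrictScalars (LocalizedModule.mkLinearMap
    (Submonoid.powers (algebraMap A0 (𝔄.R1 i) (𝔄.a j))) (𝔄.P1 i)) _

theorem isUnit₁ (i : 𝔄.ι) : IsUnit (algebraMap A0 (𝔄.R1 i) (𝔄.a i)) :=
  IsLocalization.Away.algebraMap_isUnit _

theorem isUnit_left (i j : 𝔄.ι) : IsUnit (algebraMap A0 (𝔄.R2 i j) (𝔄.a i)) := by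
  rw [IsScalarTower.algebraMap_apply A0 (𝔄.R1 i) (𝔄.R2 i j)]
  exact (𝔄.isUnit₁ i).map _

theorem isUnit_right (i j : 𝔄.ι) : IsUnit (algebraMap A0 (𝔄.R2 i j) (𝔄.a j)) := by
  rw [IsScalarTower.algebraMap_apply A0 (𝔄.R1 i) (𝔄.R2 i j)]
  exact IsLocalization.Away.algebraMap_isUnit _

theorem l_smul (i j : 𝔄.ι) (r : 𝔄.R1 i) (m : 𝔄.P1 i) :
    𝔄.l i j (r • m) = (IsScalarTower.toAlgHom A0 (𝔄.R1 i) (𝔄.R2 i j)) r • 𝔄.l i j m := by
  show LocalizedModule.mkLinearMap _ (𝔄.P1 i) (r • m) = algebraMap (𝔄.R1 i) (𝔄.R2 i j) r • _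
  rw [algebraMap_smul, map_smul]
  rfl

/-- The universal point of the `i`-th chart. -/
def q1 (i : 𝔄.ι) : Pt f a0 (𝔄.R1 i) (𝔄.P1 i) := Pt.ofDer (𝔄.small i) (𝔄.δ1_spec i).1

/-- The universal point on a double overlap. -/
def q2 (i j : 𝔄.ι) : Pt f a0 (𝔄.R2 i j) (𝔄.P2 i j) :=
  (𝔄.q1 i).map (IsScalarTower.toAlgHom A0 (𝔄.R1 i) (𝔄.R2 i j)) (𝔄.l i j).toAddMonoidHom
    (𝔄.l_smul i j)

theorem theta_q1 (i : 𝔄.ι) : 𝔄.theta i (𝔄.isUnit₁ i) (𝔄.q1 i) = LinearMap.id :=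
  𝔄.theta_unique _ _ _ _ fun x => (DFunLike.congr_fun (Pt.der_ofDer (𝔄.small i) (𝔄.δ1_spec i).1) x).symm

theorem theta_q2 (i j : 𝔄.ι) : 𝔄.theta i (𝔄.isUnit_left i j) (𝔄.q2 i j) = 𝔄.l i j := by
  rw [q2, 𝔄.theta_map i (𝔄.isUnit₁ i) (𝔄.q1 i) _ (𝔄.l i j) (𝔄.l_smul i j), theta_q1,
    LinearMap.comp_id]

/-- The second restriction. -/
def r (i j : 𝔄.ι) : 𝔄.P1 j →ₗ[A0] 𝔄.P2 i j := 𝔄.theta j (𝔄.isUnit_right i j) (𝔄.q2 i j)

theorem r_self (i : 𝔄.ι) : 𝔄.l i i = 𝔄.r i i := (𝔄.theta_q2 i i).symm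

section Compat

variable {R : Type u} [CommRing R] [Algebra A0 R] {M : Type u} [AddCommGroup M] [Module R M]
  [Module A0 M] [IsScalarTower A0 R M]

theorem exists_psi (i j : 𝔄.ι) (hi : IsUnit (algebraMap A0 R (𝔄.a i)))
    (hj : IsUnit (algebraMap A0 R (𝔄.a j))) (q : Pt f a0 R M) :
    ∃ ψ : 𝔄.P2 i j →ₗ[A0] M, ψ.comp (𝔄.l i j) = 𝔄.theta i hi q ∧
      ψ.comp (𝔄.r i j) = 𝔄.theta j hj q := by
  have hunit : ∀ x : Submonoid.powers (𝔄.a j), IsUnit (algebraMap A0 (Module.End A0 M) x) := by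
    rintro ⟨_, n, rfl⟩
    exact isUnit_end R (by rw [map_pow]; exact hj.pow n)
  let ψ := IsLocalizedModule.lift (Submonoid.powers (𝔄.a j)) (𝔄.l i j) (𝔄.theta i hi q) hunit
  have hψl : ψ.comp (𝔄.l i j) = 𝔄.theta i hi q := IsLocalizedModule.lift_comp _ _ _ _
  have hj2 : IsUnit (awayHom (𝔄.a i) R hi (algebraMap A0 (𝔄.R1 i) (𝔄.a j))) := by
    rw [AlgHom.commutes]; exact hj
  let g2 : 𝔄.R2 i j →ₐ[A0] R :=
    { IsLocalization.Away.lift (g := (awayHom (𝔄.a i) R hi).toRingHom)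
        (algebraMap A0 (𝔄.R1 i) (𝔄.a j)) hj2 with
      commutes' := fun x => by
        show IsLocalization.Away.lift _ hj2 (algebraMap A0 (𝔄.R2 i j) x) = _
        rw [IsScalarTower.algebraMap_apply A0 (𝔄.R1 i) (𝔄.R2 i j), IsLocalization.Away.lift_eq]
        exact (awayHom (𝔄.a i) R hi).commutes x }
  have h1 : ∀ (t : 𝔄.R1 i) (m : 𝔄.P2 i j), ψ (t • m) =
      g2 (algebraMap (𝔄.R1 i) (𝔄.R2 i j) t) • ψ m :=
    semilinear_of_linear (g2.comp (IsScalarTower.toAlgHom A0 (𝔄.R1 i) (𝔄.R2 i j))) ψ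
  have hsemi : ∀ (t : 𝔄.R2 i j) (m : 𝔄.P2 i j), ψ (t • m) = g2 t • ψ m :=
    semilinear_away (algebraMap A0 (𝔄.R1 i) (𝔄.a j)) g2.toRingHom ψ.toAddMonoidHom fun t m => by
      show ψ (algebraMap (𝔄.R1 i) (𝔄.R2 i j) t • m) = g2 (algebraMap _ _ t) • ψ m
      rw [algebraMap_smul]
      exact h1 t m
  refine ⟨ψ, hψl, ?_⟩
  have hq : (𝔄.q2 i j).map g2 ψ.toAddMonoidHom hsemi = q := by
    refine Pt.ext_der (𝔄.small' hi) (AddMonoidHom.ext fun x => ?_)
    rw [← 𝔄.theta_δ1 i hi, ← 𝔄.theta_δ1 i hi,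
      𝔄.theta_map i (𝔄.isUnit_left i j) (𝔄.q2 i j) g2 ψ hsemi hi, theta_q2, hψl]
  rw [r, ← 𝔄.theta_map j (𝔄.isUnit_right i j) (𝔄.q2 i j) g2 ψ hsemi hj, hq]

end Compat

/-- The ring of a triple overlap. -/
abbrev R3 (i j k : 𝔄.ι) : Type u := Localization.Away (algebraMap A0 (𝔄.R2 i j) (𝔄.a k))

/-- The module of a triple overlap. -/
abbrev P3 (i j k : 𝔄.ι) : Type u :=
  LocalizedModule (Submonoid.powers (algebraMap A0 (𝔄.R2 i j) (𝔄.a k))) (𝔄.P2 i j)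

/-- The restriction to a triple overlap. -/
def l3 (i j k : 𝔄.ι) : 𝔄.P2 i j →ₗ[A0] 𝔄.P3 i j k :=
  (LocalizedModule.mkLinearMap (Submonoid.powers (algebraMap A0 (𝔄.R2 i j) (𝔄.a k)))
    (𝔄.P2 i j)).restrictScalars A0

instance (i j k : 𝔄.ι) : IsLocalizedModule (Submonoid.powers (𝔄.a k)) (𝔄.l3 i j k) :=
  isLocalizedModule_restrictScalars (LocalizedModule.mkLinearMap
    (Submonoid.powers (algebraMap A0 (𝔄.R2 i j) (𝔄.a k))) (𝔄.P2 i j)) _

/-- The glued module of derivations. -/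
abbrev P : Submodule A0 (∀ i, 𝔄.P1 i) := glued 𝔄.l 𝔄.r

/-- The projection of the glued module. -/
abbrev π (i : 𝔄.ι) : 𝔄.P →ₗ[A0] 𝔄.P1 i := gluedProj 𝔄.l 𝔄.r i

theorem l3_smul (i j k : 𝔄.ι) (t : 𝔄.R2 i j) (m : 𝔄.P2 i j) :
    𝔄.l3 i j k (t • m) = (IsScalarTower.toAlgHom A0 (𝔄.R2 i j) (𝔄.R3 i j k)) t • 𝔄.l3 i j k m :=
  mkLinearMap_smul (Submonoid.powers (algebraMap A0 (𝔄.R2 i j) (𝔄.a k))) t m

theorem isUnit_third (i j k : 𝔄.ι) : IsUnit ((algebraMap A0 (𝔄.R3 i j k) : A0 →+* 𝔄.R3 i j k) (𝔄.a k)) := by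
  rw [IsScalarTower.algebraMap_apply A0 (𝔄.R2 i j) (𝔄.R3 i j k)]
  exact isUnit_algebraMap_away _

theorem isUnit_first (i j k : 𝔄.ι) : IsUnit ((algebraMap A0 (𝔄.R3 i j k) : A0 →+* 𝔄.R3 i j k) (𝔄.a i)) := by
  rw [IsScalarTower.algebraMap_apply A0 (𝔄.R2 i j) (𝔄.R3 i j k)]
  exact (𝔄.isUnit_left i j).map _

theorem isUnit_second (i j k : 𝔄.ι) : IsUnit ((algebraMap A0 (𝔄.R3 i j k) : A0 →+* 𝔄.R3 i j k) (𝔄.a j)) := by
  rw [IsScalarTower.algebraMap_apply A0 (𝔄.R2 i j) (𝔄.R3 i j k)]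
  exact (𝔄.isUnit_right i j).map _

/-- The universal point on a triple overlap. -/
def q3 (i j k : 𝔄.ι) : Pt f a0 (𝔄.R3 i j k) (𝔄.P3 i j k) :=
  (𝔄.q2 i j).map (IsScalarTower.toAlgHom A0 (𝔄.R2 i j) (𝔄.R3 i j k))
    (𝔄.l3 i j k).toAddMonoidHom (𝔄.l3_smul i j k)

theorem theta_q3_left (i j k : 𝔄.ι) :
    𝔄.theta i (𝔄.isUnit_first i j k) (𝔄.q3 i j k) = (𝔄.l3 i j k).comp (𝔄.l i j) := by
  rw [← theta_q2]
  exact 𝔄.theta_map i (𝔄.isUnit_left i j) (𝔄.q2 i j) _ (𝔄.l3 i j k) (𝔄.l3_smul i j k) _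

theorem theta_q3_right (i j k : 𝔄.ι) :
    𝔄.theta j (𝔄.isUnit_second i j k) (𝔄.q3 i j k) = (𝔄.l3 i j k).comp (𝔄.r i j) :=
  𝔄.theta_map j (𝔄.isUnit_right i j) (𝔄.q2 i j) _ (𝔄.l3 i j k) (𝔄.l3_smul i j k) _

instance isLocalizedModule_π (k : 𝔄.ι) :
    IsLocalizedModule (Submonoid.powers (𝔄.a k)) (𝔄.π k) := by
  choose v hv using fun i j k =>
    𝔄.exists_psi i k (𝔄.isUnit_first i j k) (𝔄.isUnit_third i j k) (𝔄.q3 i j k)
  choose t ht using fun i j k =>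
    𝔄.exists_psi j k (𝔄.isUnit_second i j k) (𝔄.isUnit_third i j k) (𝔄.q3 i j k)
  exact isLocalizedModule_gluedProj (P3 := 𝔄.P3) (a := 𝔄.a) 𝔄.l 𝔄.r
    (fun i => isUnit_end (𝔄.R1 i) (𝔄.isUnit₁ i)) 𝔄.r_self 𝔄.l3 v t
    (fun i j k x => LinearMap.congr_fun ((𝔄.theta_q3_left i j k).symm.trans (hv i j k).1.symm) x)
    (fun i j k x => LinearMap.congr_fun ((𝔄.theta_q3_right i j k).symm.trans (ht i j k).1.symm) x)
    (fun i j k x => LinearMap.congr_fun ((hv i j k).2.trans (ht i j k).2.symm) x) k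

section Classify

variable {R : Type u} [CommRing R] [Algebra A0 R] {M : Type u} [AddCommGroup M] [Module R M]
  [Module A0 M] [IsScalarTower A0 R M]

/-- The linear map on the glued module classifying a point. -/
def cls (i : 𝔄.ι) (hi : IsUnit (algebraMap A0 R (𝔄.a i))) (q : Pt f a0 R M) : 𝔄.P →ₗ[A0] M :=
  (𝔄.theta i hi q).comp (𝔄.π i)

theorem cls_indep (i j : 𝔄.ι) (hi : IsUnit (algebraMap A0 R (𝔄.a i)))
    (hj : IsUnit (algebraMap A0 R (𝔄.a j))) (q : Pt f a0 R M) :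
    𝔄.cls i hi q = 𝔄.cls j hj q := by
  obtain ⟨ψ, h1, h2⟩ := 𝔄.exists_psi i j hi hj q
  ext p
  rw [cls, cls, ← h1, ← h2]
  exact congrArg ψ (gluedProj_compat 𝔄.l 𝔄.r p i j)

theorem cls_map {R' : Type u} [CommRing R'] [Algebra A0 R'] {M' : Type u} [AddCommGroup M']
    [Module R' M'] [Module A0 M'] [IsScalarTower A0 R' M'] (i : 𝔄.ι)
    (hi : IsUnit (algebraMap A0 R (𝔄.a i))) (q : Pt f a0 R M) (g : R →ₐ[A0] R')
    (φ : M →ₗ[A0] M') (hφ : ∀ (r : R) (m : M), φ (r • m) = g r • φ m)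
    (hi' : IsUnit (algebraMap A0 R' (𝔄.a i))) :
    𝔄.cls i hi' (q.map g φ.toAddMonoidHom hφ) = φ.comp (𝔄.cls i hi q) := by
  rw [cls, cls, 𝔄.theta_map i hi q g φ hφ hi', LinearMap.comp_assoc]

theorem theta_eq_of_cls_eq (i : 𝔄.ι) (hi : IsUnit (algebraMap A0 R (𝔄.a i)))
    {θ θ' : 𝔄.P1 i →ₗ[A0] M} (h : θ.comp (𝔄.π i) = θ'.comp (𝔄.π i)) : θ = θ' := by
  refine IsLocalizedModule.ext (Submonoid.powers (𝔄.a i)) (𝔄.π i) ?_ h
  rintro ⟨_, n, rfl⟩
  exact isUnit_end R (by rw [map_pow]; exact hi.pow n)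

theorem cls_inj (i : 𝔄.ι) (hi : IsUnit (algebraMap A0 R (𝔄.a i))) {q q' : Pt f a0 R M}
    (h : 𝔄.cls i hi q = 𝔄.cls i hi q') : q = q' := by
  refine Pt.ext_der (𝔄.small' hi) (AddMonoidHom.ext fun x => ?_)
  rw [← 𝔄.theta_δ1 i hi, ← 𝔄.theta_δ1 i hi, 𝔄.theta_eq_of_cls_eq i hi h]

theorem cls_surj (i : 𝔄.ι) (hi : IsUnit (algebraMap A0 R (𝔄.a i))) (θ : 𝔄.P →ₗ[A0] M) :
    ∃ q : Pt f a0 R M, 𝔄.cls i hi q = θ := by
  have hunit : ∀ x : Submonoid.powers (𝔄.a i), IsUnit (algebraMap A0 (Module.End A0 M) x) := by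
    rintro ⟨_, n, rfl⟩
    exact isUnit_end R (by rw [map_pow]; exact hi.pow n)
  let θ' := IsLocalizedModule.lift (Submonoid.powers (𝔄.a i)) (𝔄.π i) θ hunit
  have hd := (𝔄.δ1_spec i).1.map (awayHom (𝔄.a i) R hi) θ'.toAddMonoidHom
    (semilinear_of_linear _ θ')
  refine ⟨Pt.ofDer (𝔄.small' hi) hd, ?_⟩
  rw [cls, 𝔄.theta_unique i hi _ θ' fun x => (DFunLike.congr_fun (Pt.der_ofDer _ hd) x).symm]
  exact IsLocalizedModule.lift_comp _ _ _ _

theorem cls_add (i : 𝔄.ι) (hi : IsUnit (algebraMap A0 R (𝔄.a i))) {q q' q'' : Pt f a0 R M}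
    (h : q''.der (𝔄.small' hi) = q.der (𝔄.small' hi) + q'.der (𝔄.small' hi)) :
    𝔄.cls i hi q'' = 𝔄.cls i hi q + 𝔄.cls i hi q' := by
  rw [cls, cls, cls, ← LinearMap.add_comp,
    𝔄.theta_unique i hi q'' (𝔄.theta i hi q + 𝔄.theta i hi q') fun x => by
      rw [LinearMap.add_apply, theta_δ1, theta_δ1, h]; rfl]

theorem cls_eq_zero_iff (i : 𝔄.ι) (hi : IsUnit (algebraMap A0 R (𝔄.a i))) {q : Pt f a0 R M} :
    𝔄.cls i hi q = 0 ↔ q.der (𝔄.small' hi) = 0 := by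
  refine ⟨fun h => ?_, fun h => ?_⟩
  · have := 𝔄.theta_eq_of_cls_eq i hi (θ' := 0) (h.trans (LinearMap.zero_comp _).symm)
    refine AddMonoidHom.ext fun x => ?_
    rw [← 𝔄.theta_δ1 i hi, this]
    rfl
  · rw [cls, 𝔄.theta_unique i hi q 0 fun x => by rw [h]; rfl, LinearMap.zero_comp]

end Classify

end Atlas

end Groth.L20.SmoothLocal
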